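import Cfsg.Agent.Lib.Sporadic.SuzSix.Checks

/-!
The listed codes are canonical.
-/

set_option autoImplicit false
set_option maxRecDepth 100000

namespace CfsgLib.Sporadic.SuzSix

open CfsgLib.Schur.Tails.Mat

theorem canon_ok : ((List.range 672).all fun i =>
    mmul 24 (tab.getD i 0) (oneM 24) == tab.getD i 0) = true := by decide +kernel

end CfsgLib.Sporadic.SuzSix
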