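import Cfsg.Agent.Lib.Sporadic.SuzSix.InvolDefs

/-!
The orbits and fixed points for the class of the involution.
-/

set_option autoImplicit false
set_option maxRecDepth 100000
set_option Elab.async false

namespace CfsgLib.Sporadic.SuzSix

open CfsgLib.Sporadic.OutCert (lk)

theorem orbit_ok : ((List.range 1781).all (orbitOK 0)) = true ∧ ((List.range 415).all (orbitOK 1)) = true ∧
    ((List.range 99).all (orbitOK 2)) = true := by decide +kernel

theorem fix_gens : (List.range 4).all fixOK = true := by decide +kernel

theorem size_ok : ((List.range 3).all fun l => Nat.beq (lk 11 (ptsP l) 0) (base.getD l 0)) = true := by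
  decide +kernel

theorem count_ok : ((List.range 1782).filter (inD 1)).length = 416 ∧ ((List.range 1782).filter (inD 2)).length = 100 ∧
    ((List.range 1782).filter fun x => Nat.beq (lk 11 zK x) x).length = 54 ∧
    ((List.range 1782).filter fun x => inD 1 x && Nat.beq (lk 11 zK x) x).length = 32 ∧
    ((List.range 1782).filter fun x => inD 2 x && Nat.beq (lk 11 zK x) x).length = 20 := by
  decide +kernel

theorem base_ok : ((List.range 3).all fun l => Nat.blt (base.getD l 0) 1782 && inD l (base.getD l 0) &&
    Nat.beq (lk 11 zK (base.getD l 0)) (base.getD l 0)) = true ∧ base.length = 3 := by decide +kernel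

theorem conj_tree : (List.range 62).all kOK = true := by decide +kernel

theorem conj_head : conjTab.getD 0 0 = zK ∧
    ((List.range 63).map fun i => sigK sigPts (conjTab.getD i 0)).Nodup := by decide +kernel

theorem inv_ok : ((List.range 3).all fun k =>
    Nat.beq (cK3 (at' ((gensAt.getD 3 []).getD k 0)) (at' (g3iAt.getD k 0))) (CfsgLib.Sporadic.OutCert.oneK 11 1782) &&
      Nat.blt (g3iAt.getD k 0) (3 + steps.length)) = true := by decide +kernel

end CfsgLib.Sporadic.SuzSix
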