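import Cfsg.Agent.Lib.Sporadic.SuzSix.InvolDefs

/-!
Small tests on the tables of the normal subgroup and of the action.
-/

set_option autoImplicit false
set_option maxRecDepth 100000
set_option Elab.async false

namespace CfsgLib.Sporadic.SuzSix

open CfsgLib.SmallGroups.PermChain (get)

/-- The bit mask of a list of points. -/
def maskOf (l : List ℕ) : ℕ := l.foldl (fun m x => m ||| 2 ^ x) 0

theorem qMul_range : ((List.range 64).all fun v => (List.range 6).all fun j =>
    Nat.blt ((qMul.getD v []).getD j 0) 128) = true := by decide +kernel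

theorem qMul_low : ((List.range 6).all fun j => (List.range (2 ^ j)).all fun w =>
    Nat.beq ((qMul.getD w []).getD j 0) (2 * (w + 2 ^ j))) = true := by decide +kernel

theorem aImg_linear : ((List.range 3).all fun i => (List.range 64).all fun v => (List.range 6).all fun j =>
    Nat.beq (get (aImg.getD i (0, 0)).1 (Nat.xor v (2 ^ j)))
      (Nat.xor (get (aImg.getD i (0, 0)).1 v) (get (aImg.getD i (0, 0)).1 (2 ^ j)))) = true := by decide +kernel

theorem index_ok : (3 + steps.length = 287 ∧ qAt.length = 6 ∧ aAt.length = 3) ∧
    (qAt.all (Nat.blt · 287) && (aAt.all (Nat.blt · 287) && ((gensAt.getD 3 []).all (Nat.blt · 287) &&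
      (g3iAt.all (Nat.blt · 287) && (Nat.blt zAt 287 && Nat.blt gAt 287))))) = true ∧
    ((sigQ.all (Nat.blt · 1782)) && sigPts.all (Nat.blt · 1782)) = true ∧
    ((gensAt.getD 3 []).length = 3 ∧ g3iAt.length = 3 ∧ conjTree.length = 62) ∧
    imgChain.head?.map (fun l => l.gens) = some lgens0 := by decide +kernel

theorem cover_ok : ((List.range 3).all fun l =>
    Nat.beq (maskOf ((List.range 1782).filter (inD l)))
      (maskOf ((List.range (nPts l)).map (CfsgLib.Sporadic.OutCert.lk 11 (ptsP l))))) = true := by decide +kernel

end CfsgLib.Sporadic.SuzSix
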