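import Cfsg.Agent.Lib.Sporadic.SuzSix.InvolData

/-!
The action on the 64 classes.
-/

set_option autoImplicit false
set_option maxRecDepth 100000

namespace CfsgLib.Sporadic.SuzSix

open CfsgLib.SmallGroups.PermChain

theorem chain_ok : check 64 imgChain = true := by decide +kernel

theorem chain_card : (imgChain.map fun l => l.orb.length).prod = 25920 := by decide +kernel

theorem img_ok : aImg.all (ok 64) = true ∧ cImg.all (ok 64) = true ∧
    ((List.range 2).all fun i =>
      let e := cPairs.getD i (0, 0)
      let a := aImg.getD e.1 (0, 0)
      let b := aImg.getD e.2 (0, 0)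
      same 64 (cImg.getD i (0, 0)).1 (comp 64 (comp 64 a.1 b.1) (comp 64 a.2 b.2))) = true ∧
    aImg.length = 3 ∧ cImg.length = 2 ∧ cPairs.length = 2 := by decide +kernel

theorem gens_word : genWords.length = lgens0.length ∧ ((List.range genWords.length).all fun i =>
    (genWords.getD i []).all (fun k => Nat.blt k 2) &&
      same 64 (lgens0.getD i (0, 0)).1
        ((genWords.getD i []).foldr (fun k acc => comp 64 (cImg.getD k (0, 0)).1 acc)
          (pack (List.range 64)))) = true := by decide +kernel

theorem fixes_zero : ((List.range 3).all fun i => get (aImg.getD i (0, 0)).1 0 == 0) = true := by decide +kernel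

end CfsgLib.Sporadic.SuzSix
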