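import Cfsg.Agent.Lib.Sporadic.SuzSix.InvolDefs

/-!
The normal subgroup.
-/

set_option autoImplicit false
set_option maxRecDepth 100000
set_option Elab.async false

namespace CfsgLib.Sporadic.SuzSix

open CfsgLib.Sporadic.OutCert (oneK lk)

theorem qTab_head : qK 0 = oneK 11 1782 ∧ qK 1 = zK ∧ qTab.length = 128 ∧
    ((List.range 6).all fun j => Nat.beq (qK (2 ^ (j + 1))) (qGen j)) = true := by decide +kernel

theorem mul_ok : (List.range 64).all mulOK = true := by decide +kernel

theorem zq_ok : ((List.range 6).all fun j => Nat.beq (cK3 zK (qGen j)) (cK3 (qGen j) zK)) = true ∧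
    cK3 zK zK = oneK 11 1782 := by decide +kernel

theorem conj_ok : (List.range 3).all conjOK = true := by decide +kernel

theorem sq_ok : (List.range 64).all sqOK = true := by decide +kernel

theorem sigQ_nodup : ((List.range 128).map fun i => sigK sigQ (qK i)).Nodup := by decide +kernel

theorem g_ok : Nat.beq (cK3 (at' gAt) zK) (cK3 (qK tAt) (at' gAt)) = true ∧ tAt < 128 ∧ tAt ≠ 1 := by
  decide +kernel

end CfsgLib.Sporadic.SuzSix
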