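import Cfsg.Agent.Lib.Sporadic.SuzSix.InvolDefs

/-!
The straight line steps.
-/

set_option autoImplicit false
set_option maxRecDepth 100000
set_option Elab.async false

namespace CfsgLib.Sporadic.SuzSix

open CfsgLib.Sporadic.OutCert

theorem steps_ok : slpCheck 11 1782 base3 steps = true := by decide +kernel

end CfsgLib.Sporadic.SuzSix
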