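import Cfsg.Agent.Lib.Sporadic.SuzSix.Data
import Cfsg.Agent.Lib.Schur.Co1.Gens
import Cfsg.Agent.Lib.Schur.Suz.CoverData

/-!
Checks on the data for the centraliser of the element of order three.
-/

set_option autoImplicit false
set_option maxRecDepth 100000

namespace CfsgLib.Sporadic.SuzSix

open Cfsg CfsgLib.SmallGroups CfsgLib.SmallGroups.Golay CfsgLib.Schur.Tails.Mat CfsgLib.Schur.Sporadic
open CfsgLib.Sporadic.OutCert (lk pkF)

/-- The code of one of the two words. -/
noncomputable def hK (k : ℕ) : ℕ := prodM 24 Co1.codes (hW.getD k [])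

/-- The code of one of the two inverse words. -/
noncomputable def hiK (k : ℕ) : ℕ := prodM 24 Co1.codes (hiW.getD k [])

/-- The coordinates of the first vector. -/
def uC : List ℤ := (List.range 24).map fun i => if i = uIdx then 1 else 0

/-- The coordinates of the second vector. -/
def wC : List ℤ := xW.foldr Co1.stepC uC

theorem words_ok : (∀ l ∈ xW :: (hW ++ hiW), ∀ k ∈ l, k < 5) ∧ prodM 24 Co1.codes xW = Suz.covK.getD 0 0 ∧
    mmul 24 (hK 0) (hiK 0) = oneM 24 ∧ mmul 24 (hK 1) (hiK 1) = oneM 24 := by
  decide +kernel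

theorem fix_u : ∀ k < 2, (hW.getD k []).foldr Co1.stepC uC = uC := by decide +kernel

theorem fix_w : ∀ k < 2, (hW.getD k []).foldr Co1.stepC wC = wC := by decide +kernel

theorem norms_ok : (∑ p : GolayPt, Co1.combI uC p * Co1.combI uC p) = 32 ∧
    (∑ p : GolayPt, Co1.combI wC p * Co1.combI wC p) = 32 ∧
    (∑ p : GolayPt, Co1.combI uC p * Co1.combI wC p) = -16 := by decide +kernel

/-- One step of the tree. -/
noncomputable def stepOK (i : ℕ) : Bool :=
  Nat.blt (tree.getD i (0, 0)).1 2 && (Nat.ble (tree.getD i (0, 0)).2 i &&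
    Nat.beq (tab.getD (i + 1) 0)
      (mmul 24 (hK (tree.getD i (0, 0)).1)
        (mmul 24 (tab.getD (tree.getD i (0, 0)).2 0) (hiK (tree.getD i (0, 0)).1))))

theorem start_tab : tab.getD 0 0 = prodM 24 Co1.codes xW ∧ tab.length = 672 := by decide +kernel

theorem tree_ok : (List.range 671).all stepOK = true := by decide +kernel

/-- A list without repetitions, tested. -/
def nodupB : List ℕ → Bool
  | [] => true
  | a :: l => !(l.any (Nat.beq a)) && nodupB l

theorem nodupB_sound : ∀ l : List ℕ, nodupB l = true → l.Nodup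
  | [], _ => List.nodup_nil
  | a :: l, h => by
    rw [nodupB, Bool.and_eq_true, Bool.not_eq_true', List.any_eq_false] at h
    exact List.nodup_cons.2 ⟨fun ha => h.1 a ha (Nat.beq_refl a), nodupB_sound l h.2⟩

theorem tab_nodup : nodupB tab = true := by decide +kernel

end CfsgLib.Sporadic.SuzSix
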