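import Mathlib

/-!
A counting bound for conjugacy classes by fixed points.

If a group is transitive on a set and every conjugate of `z` fixes exactly `f` points of it, then a lower
bound `n` for the conjugates of `z` under the stabiliser of one fixed point gives the bound
`card Δ * n ≤ f * card (class)`.
-/

set_option autoImplicit false

namespace CfsgLib.Sporadic.SuzSix

variable {α : Type*} [Finite α]

/-- The conjugates of `z` by the elements of a subgroup. -/
def classIn (z : Equiv.Perm α) (L : Subgroup (Equiv.Perm α)) : Set (Equiv.Perm α) :=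
  (fun g => g * z * g⁻¹) '' (L : Set (Equiv.Perm α))

theorem class_step (z : Equiv.Perm α) (L : Subgroup (Equiv.Perm α)) (Δ : Set α) (q : α)
    (hinv : ∀ g ∈ L, ∀ x, g x ∈ Δ ↔ x ∈ Δ) (hzq : z q = q) (htr : ∀ x ∈ Δ, ∃ g ∈ L, g q = x) :
    Δ.ncard * (classIn z (L ⊓ MulAction.stabilizer (Equiv.Perm α) q)).ncard ≤
      {x | x ∈ Δ ∧ z x = x}.ncard * (classIn z L).ncard := by
  classical
  choose h hL hq using htr
  have hfix : ∀ u ∈ classIn z L, {x | x ∈ Δ ∧ u x = x}.ncard = {x | x ∈ Δ ∧ z x = x}.ncard := by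
    rintro u ⟨g, hg, rfl⟩
    rw [← Set.ncard_image_of_injective {x | x ∈ Δ ∧ z x = x} g.injective]
    congr 1
    ext y
    simp only [Set.mem_ofPred_eq, Set.mem_image, Equiv.Perm.mul_apply]
    constructor
    · rintro ⟨hy, e⟩
      refine ⟨g⁻¹ y, ⟨(hinv _ (inv_mem hg) y).2 hy, ?_⟩, by simp⟩
      conv_rhs => rw [← e]
      simp
    · rintro ⟨x, ⟨hx, e⟩, rfl⟩
      exact ⟨(hinv g hg x).2 hx, by simp [e]⟩
  have hmem : ∀ (x : Δ) (u : classIn z (L ⊓ MulAction.stabilizer (Equiv.Perm α) q)),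
      h x x.2 * u.1 * (h x x.2)⁻¹ ∈ classIn z L ∧ (h x x.2 * u.1 * (h x x.2)⁻¹) x = x := by
    rintro ⟨x, hx⟩ ⟨u, g, hg, rfl⟩
    refine ⟨⟨h x hx * g, mul_mem (hL x hx) hg.1, by group⟩, ?_⟩
    have hgq : g q = q := hg.2
    have hgi : g⁻¹ q = q := (Equiv.symm_apply_eq _).2 hgq.symm
    have hhi : (h x hx)⁻¹ x = q := (Equiv.symm_apply_eq _).2 (hq x hx).symm
    simp only [Equiv.Perm.mul_apply, hhi, hgi, hzq, hgq, hq]
  let F : Δ × classIn z (L ⊓ MulAction.stabilizer (Equiv.Perm α) q) →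
      (Σ u : classIn z L, {x | x ∈ Δ ∧ u.1 x = x}) := fun p =>
    ⟨⟨_, (hmem p.1 p.2).1⟩, ⟨p.1.1, p.1.2, (hmem p.1 p.2).2⟩⟩
  have hF : Function.Injective F := by
    rintro ⟨⟨x, hx⟩, u⟩ ⟨⟨y, hy⟩, v⟩ e
    have e1 := congrArg (fun s => (s.2.1 : α)) e
    have e2 := congrArg (fun s => (s.1.1 : Equiv.Perm α)) e
    simp only [F] at e1 e2
    subst e1
    exact Prod.ext rfl (Subtype.ext (mul_left_cancel (mul_right_cancel e2)))
  have h1 := Nat.card_le_card_of_injective F hF
  let : Fintype (classIn z L) := Fintype.ofFinite _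
  rw [Nat.card_prod, Nat.card_sigma] at h1
  simp only [Nat.card_coe_set_eq] at h1
  refine h1.trans (le_of_eq ?_)
  rw [Finset.sum_congr rfl fun u _ => hfix u.1 u.2, Finset.sum_const, smul_eq_mul, Finset.card_univ,
    ← Nat.card_eq_fintype_card, Nat.card_coe_set_eq, mul_comm]

theorem card_centralizer_le (z : Equiv.Perm α) (L : Subgroup (Equiv.Perm α)) (hz : z ∈ L) {n : ℕ}
    (hn : n ≤ (classIn z L).ncard) :
    n * Nat.card (Subgroup.centralizer ({(⟨z, hz⟩ : L)} : Set L)) ≤ Nat.card L := by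
  let C := Subgroup.centralizer ({(⟨z, hz⟩ : L)} : Set L)
  let f : L ⧸ C → Equiv.Perm α := fun q => Quotient.liftOn' q (fun g => (g : Equiv.Perm α) * z * (g : Equiv.Perm α)⁻¹)
    fun a b h => by
      rw [QuotientGroup.leftRel_apply, Subgroup.mem_centralizer_singleton_iff] at h
      have h' := congrArg Subtype.val h
      simp only [Subgroup.coe_mul, InvMemClass.coe_inv] at h'
      calc (a : Equiv.Perm α) * z * (a : Equiv.Perm α)⁻¹
          = a * (z * ((a : Equiv.Perm α)⁻¹ * b)) * (b : Equiv.Perm α)⁻¹ := by group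
        _ = a * (((a : Equiv.Perm α)⁻¹ * b) * z) * (b : Equiv.Perm α)⁻¹ := by rw [h']
        _ = b * z * (b : Equiv.Perm α)⁻¹ := by group
  have hsub : classIn z L ⊆ Set.range f := by
    rintro _ ⟨g, hg, rfl⟩
    exact ⟨QuotientGroup.mk ⟨g, hg⟩, rfl⟩
  have h1 : n ≤ C.index := by
    refine hn.trans ((Set.ncard_le_ncard hsub).trans ?_)
    rw [← Set.image_univ]
    exact (Set.ncard_image_le Set.finite_univ).trans_eq (Set.ncard_univ _)
  rw [← C.card_mul_index, mul_comm n]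
  exact Nat.mul_le_mul_left _ h1

end CfsgLib.Sporadic.SuzSix
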