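import Cfsg.Agent.Lib.Sporadic.SuzSix.Upper

/-!
The element of order three, and the quotient of its centraliser.
-/

set_option autoImplicit false
set_option maxRecDepth 100000

namespace CfsgLib.Sporadic.SuzSix

open Cfsg CfsgLib.SmallGroups CfsgLib.Schur.Sporadic

theorem cube_fix : (xW ++ xW ++ xW).foldr Co1.stepC uC = uC := by decide +kernel

attribute [local irreducible] xW uC

theorem x_cube : x ^ 3 = 1 := by
  have hmem : ((x : Co0) : Spor.Co1) ∈ Subgroup.zpowers Suz.xb := x_class ▸ Subgroup.mem_zpowers _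
  have hc := Suz.kernel_pow x hmem
  have hfix : (x ^ 3) • u = u := by
    have e : x ^ 3 = Co1.wordG (xW ++ xW ++ xW) := by
      simp [x, Co1.wordG, pow_succ, mul_assoc]
    rw [e, u, Co1.smul_comb_word, cube_fix]
  rcases LeechCenter.central_cases hc with h | h
  · exact Subtype.ext h
  · exfalso
    have h2 : ((x ^ 3 : Co0) : Equiv.Perm leechLattice) u = u := hfix
    rw [h] at h2
    have h3 : ∀ p, (u : GolayPt → ℤ) p = 0 := fun p => by
      have h4 : -((u : GolayPt → ℤ) p) = (u : GolayPt → ℤ) p :=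
        congrArg (fun v : leechLattice => (v : GolayPt → ℤ) p) h2
      omega
    have h5 := norm_u
    rw [sqNorm, Finset.sum_eq_zero fun p _ => by rw [h3 p]; simp] at h5
    norm_num at h5

theorem x_ne : x ≠ 1 := fun h => Suz.xb_ne (by rw [← x_class, h]; rfl)

/-- The subgroup of order three. -/
noncomputable def A : Subgroup Co0 := Subgroup.zpowers x

theorem card_A : Nat.card A = 3 := by
  rw [A, Nat.card_zpowers]
  exact orderOf_eq_prime x_cube x_ne

theorem centralizer_A : Subgroup.centralizer (A : Set Co0) = Suz.GG := by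
  rw [A, Subgroup.zpowers_eq_closure, Subgroup.centralizer_closure, centralizer_eq]

theorem sup_subgroupOf : (A ⊔ Subgroup.center Co0).subgroupOf Suz.GG = Suz.sig.ker := by
  haveI : Finite Co0 := Suz.finite_Co0
  have hle : A ⊔ Subgroup.center Co0 ≤ Suz.GG := by
    refine sup_le ((Subgroup.zpowers_le).2 x_mem) fun c hc => ?_
    show _ ∈ Suz.KK
    rw [show (QuotientGroup.mk' (Subgroup.center Co0)) c = 1 from (QuotientGroup.eq_one_iff c).2 hc]
    exact one_mem _
  have hker : A ⊔ Subgroup.center Co0 ≤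
      (Subgroup.zpowers Suz.xb).comap (QuotientGroup.mk' (Subgroup.center Co0)) := by
    refine sup_le ((Subgroup.zpowers_le).2 ?_) fun c hc => ?_
    · show ((x : Co0) : Spor.Co1) ∈ Subgroup.zpowers Suz.xb
      rw [x_class]
      exact Subgroup.mem_zpowers _
    · show (c : Spor.Co1) ∈ Subgroup.zpowers Suz.xb
      rw [(QuotientGroup.eq_one_iff c).2 hc]
      exact one_mem _
  refine Subgroup.eq_of_le_of_card_ge (fun g hg => Suz.mem_ker.2 (hker (Subgroup.mem_subgroupOf.1 hg))) ?_
  rw [Suz.card_ker, Nat.card_congr (Subgroup.subgroupOfEquivOfLe hle).toEquiv]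
  have h2 : 2 ∣ Nat.card ↥(A ⊔ Subgroup.center Co0) :=
    LeechCenter.card_center_Co0 ▸ Subgroup.card_dvd_of_le le_sup_right
  have h3 : 3 ∣ Nat.card ↥(A ⊔ Subgroup.center Co0) := card_A ▸ Subgroup.card_dvd_of_le le_sup_left
  have h6 : 6 ∣ Nat.card ↥(A ⊔ Subgroup.center Co0) :=
    Nat.Coprime.mul_dvd_of_dvd_of_dvd (show Nat.Coprime 2 3 by norm_num) h2 h3
  exact Nat.le_of_dvd Nat.card_pos h6

theorem quotient_spec (C : Subgroup Co0) (h : C = Suz.GG) :
    ∃ _ : ((A ⊔ Subgroup.center Co0).subgroupOf C).Normal,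
      Nonempty (Spor.Suz ≃* C ⧸ (A ⊔ Subgroup.center Co0).subgroupOf C) := by
  subst h
  haveI hn : ((A ⊔ Subgroup.center Co0).subgroupOf Suz.GG).Normal := sup_subgroupOf ▸ inferInstance
  exact ⟨hn, ⟨(QuotientGroup.quotientKerEquivOfSurjective Suz.sig Suz.sig_surjective).symm.trans
    (QuotientGroup.quotientMulEquivOfEq sup_subgroupOf.symm)⟩⟩

end CfsgLib.Sporadic.SuzSix
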