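import Cfsg.Agent.Lib.Sporadic.SuzSix.InvolGroup
import Cfsg.Agent.Lib.Sporadic.SuzSix.CheckImage
import Cfsg.Agent.Lib.Classical.OrthPOmega

/-!
The action of the centraliser of the central involution on the classes of the extraspecial group.
-/

set_option autoImplicit false
set_option maxRecDepth 10000

open scoped commutatorElement

namespace CfsgLib.Sporadic.SuzSix

open CfsgLib.Sporadic.OutCert (lk pkF compK conjK oneK Rep)
open CfsgLib.Sporadic.OutCert.Suz (P H hw)
open CfsgLib.ThreeTransp.H1Vanish (dec dec_xor dec_zero dec_inj dec_surj)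
open CfsgLib.Orth (orthGroup minusForm)
open CfsgLib.SmallGroups

attribute [local irreducible] lk pkF compK conjK oneK steps qTab aImg cImg imgChain genWords lgens0 cMul

theorem cls_inv (x : QQ) : cls x⁻¹ = cls x := by
  have h := cls_mul x x⁻¹
  rw [mul_inv_cancel, cls_one] at h
  exact (add_eq_zero_iff_neg_eq.1 h.symm).symm.trans (ZModModule.neg_eq_self _)

theorem cls_ZQ : cls ZQ = 0 := by
  rw [cls_spec ZQ (show 1 < 128 by norm_num) qE_one.symm]
  exact dec_zero bitEquiv

/-- The elements centralising the involution and normalising the subgroup. -/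
noncomputable def KN : Subgroup H :=
  Subgroup.centralizer ({Z} : Set H) ⊓ Subgroup.normalizer (QQ : Set H)

theorem QQ_le_KN : QQ ≤ KN := le_inf QQ_le Subgroup.le_normalizer

/-- Conjugation of the subgroup. -/
noncomputable def cj2 (k : KN) (x : QQ) : QQ :=
  ⟨(k : H) * x * (k : H)⁻¹, (Subgroup.mem_normalizer_iff.1 k.2.2 x).1 x.2⟩

theorem cj2_mul (k : KN) (x y : QQ) : cj2 k (x * y) = cj2 k x * cj2 k y :=
  Subtype.ext (show (k : H) * ((x : H) * y) * (k : H)⁻¹ =
    ((k : H) * x * (k : H)⁻¹) * ((k : H) * y * (k : H)⁻¹) by group)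

theorem cj2_ZQ (k : KN) : cj2 k ZQ = ZQ := Subtype.ext (show (k : H) * Z * (k : H)⁻¹ = Z by
  rw [Subgroup.mem_centralizer_singleton_iff.1 k.2.1, mul_inv_cancel_right])

theorem cls_cj2_congr (k : KN) {x y : QQ} (h : cls x = cls y) : cls (cj2 k x) = cls (cj2 k y) := by
  have h0 : cls (x⁻¹ * y) = 0 := by rw [cls_mul, cls_inv, h, ZModModule.add_self]
  have hd : cls (cj2 k (x⁻¹ * y)) = 0 := by
    rcases cls_eq_zero h0 with e | e
    · rw [show x⁻¹ * y = 1 from Subtype.ext e,
        show cj2 k 1 = 1 from Subtype.ext (show (k : H) * 1 * (k : H)⁻¹ = 1 by group), cls_one]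
    · rw [show x⁻¹ * y = ZQ from Subtype.ext e, cj2_ZQ, cls_ZQ]
  conv_rhs => rw [show y = x * (x⁻¹ * y) by group, cj2_mul, cls_mul, hd, add_zero]

/-- The action on a class. -/
noncomputable def act (k : KN) (v : VV) : VV := cls (cj2 k (cls_surj v).choose)

theorem act_cls (k : KN) (x : QQ) : act k (cls x) = cls (cj2 k x) :=
  cls_cj2_congr k (cls_surj (cls x)).choose_spec

theorem act_add (k : KN) (v w : VV) : act k (v + w) = act k v + act k w := by
  obtain ⟨x, rfl⟩ := cls_surj v
  obtain ⟨y, rfl⟩ := cls_surj w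
  rw [← cls_mul, act_cls, act_cls, act_cls, cj2_mul, cls_mul]

theorem act_mul (k l : KN) (v : VV) : act (k * l) v = act k (act l v) := by
  obtain ⟨x, rfl⟩ := cls_surj v
  rw [act_cls, act_cls, act_cls, show cj2 (k * l) x = cj2 k (cj2 l x) from Subtype.ext
    (show ((k : H) * l) * x * ((k : H) * l)⁻¹ = (k : H) * ((l : H) * x * (l : H)⁻¹) * (k : H)⁻¹ by group)]

theorem act_one (v : VV) : act 1 v = v := by
  obtain ⟨x, rfl⟩ := cls_surj v
  rw [act_cls, show cj2 1 x = x from Subtype.ext (show (1 : H) * x * (1 : H)⁻¹ = x by group)]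

theorem act_form (k : KN) (v : VV) : QF (act k v) = QF v := by
  obtain ⟨x, rfl⟩ := cls_surj v
  have h1 := sq_eq (cj2 k x)
  have h2 : ((cj2 k x : QQ) : H) * (cj2 k x : QQ) = (k : H) * ((x : H) * x) * (k : H)⁻¹ :=
    show ((k : H) * x * (k : H)⁻¹) * ((k : H) * x * (k : H)⁻¹) = _ by group
  have hc : (k : H) * Z * (k : H)⁻¹ = Z := congrArg Subtype.val (cj2_ZQ k)
  rw [h2, sq_eq] at h1
  rw [act_cls]
  have key : ∀ a b : ZMod 2,
      (k : H) * (if a = 1 then Z else 1) * (k : H)⁻¹ = (if b = 1 then Z else 1) → b = a := by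
    have h01 : ∀ a : ZMod 2, a = 0 ∨ a = 1 := by decide
    intro a b h
    rcases h01 a with rfl | rfl <;> rcases h01 b with rfl | rfl <;>
      first
        | rfl
        | (exfalso; simp [hc, Z_ne, Z_ne.symm] at h)
  exact key _ _ h1

/-- The linear map of an element. -/
noncomputable def lin (k : KN) : VV →ₗ[ZMod 2] VV :=
  (AddMonoidHom.mk' (act k) (act_add k)).toZModLinearMap 2

theorem lin_apply (k : KN) (v : VV) : lin k v = act k v := rfl

/-- The invertible linear map of an element. -/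
noncomputable def linE (k : KN) : VV ≃ₗ[ZMod 2] VV :=
  LinearEquiv.ofLinearMap (lin k) (lin k⁻¹)
    (LinearMap.ext fun v => by
      simp only [LinearMap.comp_apply, lin_apply, ← act_mul, mul_inv_cancel, act_one, LinearMap.id_apply])
    (LinearMap.ext fun v => by
      simp only [LinearMap.comp_apply, lin_apply, ← act_mul, inv_mul_cancel, act_one, LinearMap.id_apply])

/-- The representation. -/
noncomputable def phi : KN →* orthGroup QF :=
  MonoidHom.mk' (fun k => ⟨linE k, act_form k⟩) fun k l => Subtype.ext (LinearEquiv.ext fun v => act_mul k l v)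

theorem phi_apply (k : KN) (v : VV) : (phi k).1 v = act k v := rfl

theorem QQ_ker : QQ.subgroupOf KN ≤ phi.ker := by
  intro k hk
  refine Subtype.ext (LinearEquiv.ext fun v => ?_)
  rw [phi_apply]
  obtain ⟨x, rfl⟩ := cls_surj v
  have e : cj2 k x = (⟨(k : H), hk⟩ : QQ) * x * (⟨(k : H), hk⟩ : QQ)⁻¹ := Subtype.ext rfl
  rw [act_cls, e, cls_mul, cls_mul, cls_inv, add_right_comm, ZModModule.add_self, zero_add]
  rfl

/-- One of the three further elements. -/
noncomputable def AE (i : ℕ) : H := el (aAt.getD i 0)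

theorem rep_AE {i : ℕ} (hi : i < 3) : Rep 11 1782 (aK i) (AE i : P) := rep_el (at_lt.2.2.2.1 i hi)

theorem conj_spec {i : ℕ} (hi : i < 3) : AE i * Z = Z * AE i ∧ ∀ j < 6, ∃ c < 128,
    AE i * G6 j = qE c * AE i ∧ c / 2 = PermChain.get (aImg.getD i (0, 0)).1 (2 ^ j) := by
  have h := List.all_eq_true.1 conj_ok i (List.mem_range.2 hi)
  simp only [conjOK, Bool.and_eq_true, List.all_eq_true, List.mem_range, Nat.beq_eq, Nat.blt_eq] at h
  refine ⟨eq_of_rep (h.1 ▸ rep_mul (rep_AE hi) rep_Z) (rep_mul rep_Z (rep_AE hi)), fun j hj => ?_⟩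
  obtain ⟨⟨hc, he⟩, hi2⟩ := h.2 j hj
  exact ⟨_, hc, eq_of_rep (he ▸ rep_mul (rep_AE hi) (rep_G6 hj)) (rep_mul (rep_qE hc) (rep_AE hi)), hi2⟩

theorem AE_mem {i : ℕ} (hi : i < 3) : AE i ∈ KN := by
  obtain ⟨hZ, hG⟩ := conj_spec hi
  refine ⟨Subgroup.mem_centralizer_singleton_iff.2 hZ, Subgroup.mem_normalizer_fintype fun n hn => ?_⟩
  have hle : QQ ≤ QQ.comap (MulAut.conj (AE i)).toMonoidHom := by
    refine (Subgroup.closure_le _).2 ?_
    rintro _ (rfl | ⟨j, hj, rfl⟩)
    · show AE i * Z * (AE i)⁻¹ ∈ QQ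
      rw [hZ, mul_inv_cancel_right]
      exact Z_QQ
    · show AE i * G6 j * (AE i)⁻¹ ∈ QQ
      obtain ⟨c, -, he, -⟩ := hG j hj
      rw [he, mul_inv_cancel_right]
      exact qE_mem c
  exact hle hn

theorem G6_eq {j : ℕ} (hj : j < 6) : G6 j = qE (2 ^ (j + 1)) := by
  have h := Nat.eq_of_beq_eq_true (List.all_eq_true.1 qTab_head.2.2.2 j (List.mem_range.2 hj))
  have hlt : 2 ^ (j + 1) < 128 := (Nat.pow_lt_pow_right Nat.one_lt_two (show j + 1 < 7 by omega))
  exact eq_of_rep (rep_G6 hj) (h ▸ rep_qE hlt)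

theorem img_apply {i : ℕ} (hi : i < 3) : ∀ v < 64,
    dec bitEquiv (PermChain.get (aImg.getD i (0, 0)).1 v) = act ⟨AE i, AE_mem hi⟩ (dec bitEquiv v) := by
  have hb : ∀ j < 6, dec bitEquiv (PermChain.get (aImg.getD i (0, 0)).1 (2 ^ j)) =
      act ⟨AE i, AE_mem hi⟩ (dec bitEquiv (2 ^ j)) := by
    intro j hj
    have hlt : 2 ^ (j + 1) < 128 := (Nat.pow_lt_pow_right Nat.one_lt_two (show j + 1 < 7 by omega))
    obtain ⟨c, hc, he, hc2⟩ := (conj_spec hi).2 j hj
    have e1 : cls ⟨G6 j, G6_QQ hj⟩ = dec bitEquiv (2 ^ j) := by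
      rw [cls_spec _ hlt (G6_eq hj), pow_succ, Nat.mul_div_cancel _ two_pos]
    rw [← e1, act_cls, cls_spec _ hc (show AE i * G6 j * (AE i)⁻¹ = qE c by rw [he, mul_inv_cancel_right]), hc2]
  intro v
  induction v using Nat.strong_induction_on with
  | _ v ih =>
    intro hv
    rcases eq_or_ne v 0 with rfl | h0
    · have h := List.all_eq_true.1 fixes_zero i (List.mem_range.2 hi)
      rw [beq_iff_eq] at h
      have h1 := act_cls ⟨AE i, AE_mem hi⟩ 1
      rw [h, dec_zero, ← cls_one, h1, show cj2 ⟨AE i, AE_mem hi⟩ 1 = 1 from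
        Subtype.ext (show AE i * 1 * (AE i)⁻¹ = 1 by group)]
    have hj : Nat.log 2 v < 6 := Nat.log_lt_of_lt_pow h0 hv
    set j := Nat.log 2 v
    have h1 : 2 ^ j ≤ v := Nat.pow_log_le_self 2 h0
    have h2 : v < 2 ^ (j + 1) := Nat.lt_pow_succ_log_self Nat.one_lt_two v
    rw [pow_succ] at h2
    have hp : 0 < 2 ^ j := by positivity
    have hx : (v - 2 ^ j) ^^^ 2 ^ j = v := by
      rw [Nat.xor_comm]
      have hw' : v - 2 ^ j < 2 ^ j := by omega
      refine Eq.trans ?_ (Nat.add_sub_cancel' h1)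
      have ha := Nat.two_pow_add_eq_or_of_lt hw' 1
      rw [mul_one] at ha
      rw [ha]
      refine Nat.eq_of_testBit_eq fun m => ?_
      rw [Nat.testBit_xor, Nat.testBit_lor]
      by_cases hm : j = m
      · subst hm
        rw [Nat.testBit_lt_two_pow hw', Bool.or_false, Bool.xor_false]
      · rw [Nat.testBit_two_pow_of_ne hm, Bool.false_or, Bool.false_xor]
    have hl := List.all_eq_true.1 (List.all_eq_true.1 (List.all_eq_true.1 aImg_linear i (List.mem_range.2 hi))
      (v - 2 ^ j) (List.mem_range.2 (by omega))) j (List.mem_range.2 hj)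
    rw [Nat.beq_eq] at hl
    have hl' : PermChain.get (aImg.getD i (0, 0)).1 ((v - 2 ^ j) ^^^ 2 ^ j) =
        PermChain.get (aImg.getD i (0, 0)).1 (v - 2 ^ j) ^^^ PermChain.get (aImg.getD i (0, 0)).1 (2 ^ j) := hl
    conv_lhs => rw [← hx, hl', dec_xor, ih _ (by omega) (by omega), hb j hj, ← act_add, ← dec_xor, hx]

/-- The classes numbered. -/
noncomputable def e64 : Fin 64 ≃ VV :=
  Equiv.ofBijective (fun i => dec bitEquiv i)
    ⟨fun a b h => Fin.ext (dec_inj bitEquiv a.2 b.2 h), fun v => by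
      obtain ⟨x, hx, e⟩ := dec_surj bitEquiv v
      exact ⟨⟨x, hx⟩, e⟩⟩

/-- The permutation of the classes. -/
noncomputable def toP : orthGroup QF →* Equiv.Perm (Fin 64) :=
  e64.symm.permCongrHom.toMonoidHom.comp
    (MonoidHom.mk' (fun g => g.1.toEquiv) fun a b => Equiv.ext fun v => rfl)

theorem toP_injective : Function.Injective toP := by
  intro a b h
  have h' := e64.symm.permCongrHom.injective h
  exact Subtype.ext (LinearEquiv.ext fun v => congrArg (fun p : Equiv.Perm VV => p v) h')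

theorem toP_phi {i : ℕ} (hi : i < 3) :
    toP (phi ⟨AE i, AE_mem hi⟩) = PermChain.toPerm 64 (aImg.getD i (0, 0)) := by
  have hok : PermChain.ok 64 (aImg.getD i (0, 0)) = true := by
    rw [List.getD_eq_getElem _ _ (by rw [img_ok.2.2.2.1]; exact hi)]
    exact List.all_eq_true.1 img_ok.1 _ (List.getElem_mem _)
  refine Equiv.ext fun p => e64.injective ?_
  show e64 (e64.symm (act ⟨AE i, AE_mem hi⟩ (e64 p))) = e64 _
  rw [Equiv.apply_symm_apply]
  show act _ (dec bitEquiv p) = dec bitEquiv _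
  rw [← img_apply hi p p.2, PermChain.rep_fst hok p]

theorem chain_le : PermChain.grp 64 imgChain ≤ ((commutator KN).map phi).map toP := by
  obtain ⟨hA, hC, hpair, hlA, hlC, hlP⟩ := img_ok
  set W := ((commutator KN).map phi).map toP
  have hAok : ∀ {a}, a < 3 → PermChain.ok 64 (aImg.getD a (0, 0)) = true := fun {a} ha => by
    rw [List.getD_eq_getElem _ _ (hlA.symm ▸ ha)]; exact List.all_eq_true.1 hA _ (List.getElem_mem _)
  have hgen : ∀ k < 2, ∃ σ ∈ W, PermChain.Rep (cImg.getD k (0, 0)).1 σ := by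
    intro k hk
    have hp : (cPairs.getD k (0, 0)).1 < 3 ∧ (cPairs.getD k (0, 0)).2 < 3 := by
      interval_cases k <;> simp [cPairs]
    have h := List.all_eq_true.1 hpair k (List.mem_range.2 hk)
    have hok : PermChain.ok 64 (cImg.getD k (0, 0)) = true := by
      rw [List.getD_eq_getElem _ _ (hlC.symm ▸ hk)]
      exact List.all_eq_true.1 hC _ (List.getElem_mem _)
    refine ⟨_, ?_, PermChain.rep_fst hok⟩
    refine ⟨phi ⁅(⟨AE _, AE_mem hp.1⟩ : KN), ⟨AE _, AE_mem hp.2⟩⁆,
      ⟨_, Subgroup.commutator_mem_commutator (Subgroup.mem_top _) (Subgroup.mem_top _), rfl⟩, ?_⟩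
    rw [map_commutatorElement, map_commutatorElement, toP_phi hp.1, toP_phi hp.2]
    refine (PermChain.perm_eq h (PermChain.rep_fst hok) ?_).symm
    rw [commutatorElement_def, mul_assoc (PermChain.toPerm 64 _ * _)]
    exact PermChain.rep_comp (PermChain.rep_comp (PermChain.rep_fst (hAok hp.1)) (PermChain.rep_fst (hAok hp.2)))
      (PermChain.rep_comp (PermChain.rep_snd (hAok hp.1)) (PermChain.rep_snd (hAok hp.2)))
  have hone : PermChain.Rep (PermChain.pack (List.range 64)) (1 : Equiv.Perm (Fin 64)) := fun i => by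
    rw [PermChain.get_pack _ (fun a ha => by rw [List.mem_range] at ha; omega) _ (by simp)]
    simp
  have hword : ∀ l : List ℕ, (∀ k ∈ l, k < 2) → ∃ σ ∈ W, PermChain.Rep
      (l.foldr (fun k acc => PermChain.comp 64 (cImg.getD k (0, 0)).1 acc) (PermChain.pack (List.range 64))) σ := by
    intro l
    induction l with
    | nil => exact fun _ => ⟨1, one_mem _, hone⟩
    | cons k l ih =>
      intro hl
      obtain ⟨σ, hσ, hr⟩ := hgen k (hl k List.mem_cons_self)
      obtain ⟨τ, hτ, hs⟩ := ih fun j hj => hl j (List.mem_cons_of_mem _ hj)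
      exact ⟨σ * τ, mul_mem hσ hτ, PermChain.rep_comp hr hs⟩
  refine (Subgroup.closure_le _).2 ?_
  rintro _ ⟨e, he, rfl⟩
  have hhead : PermChain.gensOf imgChain = lgens0 := by
    have h := index_ok.2.2.2.2
    cases hc : imgChain with
    | nil => rw [hc] at h; simp at h
    | cons l r => rw [hc] at h; simpa [PermChain.gensOf] using h
  rw [hhead] at he
  obtain ⟨n, hn, rfl⟩ := List.mem_iff_getElem.1 he
  have hn' : n < genWords.length := gens_word.1 ▸ hn
  have h := List.all_eq_true.1 gens_word.2 n (List.mem_range.2 hn')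
  simp only [Bool.and_eq_true, List.all_eq_true, Nat.blt_eq] at h
  obtain ⟨σ, hσ, hr⟩ := hword _ h.1
  have hok : PermChain.ok 64 (lgens0[n]) = true := by
    have hc := chain_ok
    cases hch : imgChain with
    | nil => rw [hch] at hhead; exact absurd hn (by rw [← hhead]; simp [PermChain.gensOf])
    | cons l r =>
      rw [hch] at hc hhead
      simp only [PermChain.check, Bool.and_eq_true] at hc
      have hm : lgens0[n] ∈ PermChain.gensOf (l :: r) := by rw [hhead]; exact List.getElem_mem hn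
      exact (PermChain.levelOK_iff.1 hc.1).2.1 _ hm
  rw [SetLike.mem_coe, PermChain.perm_eq (τ := σ) ?_ (PermChain.rep_fst hok) hr]
  · exact hσ
  · have h2 := h.2
    rwa [List.getD_eq_getElem _ _ hn] at h2

theorem card_image_ge : 25920 ≤ Nat.card ((commutator KN).map phi) := by
  rw [← Subgroup.card_map_of_injective toP_injective, ← chain_card, ← PermChain.card_grp chain_ok]
  exact Nat.card_le_card_of_injective _ (Subgroup.inclusion_injective chain_le)

end CfsgLib.Sporadic.SuzSix
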