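import Cfsg.Agent.Lib.Sporadic.SuzSix.CheckSteps
import Cfsg.Agent.Lib.Sporadic.SuzSix.CheckClass
import Cfsg.Agent.Lib.Sporadic.SuzSix.CheckExtra
import Cfsg.Agent.Lib.Sporadic.SuzSix.ClassBound
import Cfsg.Agent.Lib.Sporadic.OutCert.Suz.Group

/-!
The elements given by the straight line steps, and the lower bound for the class of the central involution.
-/

set_option autoImplicit false
set_option maxRecDepth 10000

namespace CfsgLib.Sporadic.SuzSix

open CfsgLib.Sporadic.OutCert (lk pkF compK conjK oneK slpVal key key_conj rep_key Rep rep_comp rep_one slp_sound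
  pairStab)
open CfsgLib.Sporadic.OutCert.Suz (P H hw adjK rep_A rep_N rep_B A_mem N_mem B_mem H_le_stab)

attribute [local irreducible] lk pkF compK conjK oneK steps qTab conjTab OutCert.Suz.ka OutCert.Suz.kn
  OutCert.Suz.kb OutCert.Suz.rowAt ptsP0 ptsP1 ptsP2 genP0 genP1 genP2 prevP0 prevP1 prevP2

theorem el_ex (i : ℕ) : ∃ g : H, i < 287 → Rep 11 1782 (at' i) (g : P) := by
  by_cases h : i < 287
  · obtain ⟨g, hg, hr⟩ := slp_sound hw steps_ok (S := H) (fun j hj => by
      simp only [base3, List.length_cons, List.length_nil] at hj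
      match j, hj with
      | 0, _ => exact ⟨_, A_mem, rep_A⟩
      | 1, _ => exact ⟨_, N_mem, rep_N⟩
      | 2, _ => exact ⟨_, B_mem, rep_B⟩) i (by
        rw [show base3.length = 3 from rfl, index_ok.1.1]; exact h)
    exact ⟨⟨g, hg⟩, fun _ => hr⟩
  · exact ⟨1, fun h' => absurd h' h⟩

/-- The element at a position. -/
noncomputable def el (i : ℕ) : H := (el_ex i).choose

theorem rep_el {i : ℕ} (hi : i < 287) : Rep 11 1782 (at' i) (el i : P) := (el_ex i).choose_spec hi

theorem at_lt : zAt < 287 ∧ gAt < 287 ∧ (∀ j < 6, qAt.getD j 0 < 287) ∧ (∀ j < 3, aAt.getD j 0 < 287) ∧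
    (∀ k < 3, (gensAt.getD 3 []).getD k 0 < 287) ∧ ∀ k < 3, g3iAt.getD k 0 < 287 := by
  obtain ⟨⟨-, hq, ha⟩, h, -, ⟨hg, hgi, -⟩, -⟩ := index_ok
  simp only [Bool.and_eq_true, List.all_eq_true, Nat.blt_eq] at h
  obtain ⟨h1, h2, h3, h4, h5, h6⟩ := h
  refine ⟨h5, h6, fun j hj => ?_, fun j hj => ?_, fun j hj => ?_, fun j hj => ?_⟩
  · rw [List.getD_eq_getElem _ _ (hq.symm ▸ hj)]; exact h1 _ (List.getElem_mem _)
  · rw [List.getD_eq_getElem _ _ (ha.symm ▸ hj)]; exact h2 _ (List.getElem_mem _)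
  · rw [List.getD_eq_getElem _ _ (hg.symm ▸ hj)]; exact h3 _ (List.getElem_mem _)
  · rw [List.getD_eq_getElem _ _ (hgi.symm ▸ hj)]; exact h4 _ (List.getElem_mem _)

/-- The involution. -/
noncomputable def Z : H := el zAt

theorem rep_Z : Rep 11 1782 zK (Z : P) := rep_el at_lt.1

/-- A base point. -/
noncomputable def bpt (l : ℕ) : Fin 1782 :=
  if h : base.getD l 0 < 1782 then ⟨base.getD l 0, h⟩ else 0

theorem base_spec {l : ℕ} (hl : l < 3) :
    (bpt l : ℕ) = base.getD l 0 ∧ inD l (bpt l) = true ∧ (Z : P) (bpt l) = bpt l := by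
  have h := List.all_eq_true.1 base_ok.1 l (List.mem_range.2 hl)
  simp only [Bool.and_eq_true, Nat.blt_eq, Nat.beq_eq] at h
  obtain ⟨⟨h1, h2⟩, h3⟩ := h
  have hb : (bpt l : ℕ) = base.getD l 0 := by rw [bpt, dif_pos h1]
  exact ⟨hb, hb.symm ▸ h2, Fin.ext (by rw [← rep_Z, hb]; exact h3)⟩

/-- The stabilisers. -/
noncomputable def lev : ℕ → Subgroup P
  | 0 => H
  | l + 1 => lev l ⊓ MulAction.stabilizer P (bpt l)

theorem lev_le : ∀ l, lev l ≤ H
  | 0 => le_rfl
  | l + 1 => inf_le_left.trans (lev_le l)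

theorem mem_lev {g : P} (hg : g ∈ H) : ∀ l, (∀ k < l, g (bpt k) = bpt k) → g ∈ lev l
  | 0, _ => hg
  | l + 1, h => ⟨mem_lev hg l fun k hk => h k (by omega), h l (by omega)⟩

theorem lev_fix {g : P} : ∀ l, g ∈ lev l → ∀ k < l, g (bpt k) = bpt k
  | 0, _, _, hk => absurd hk (by omega)
  | l + 1, hg, k, hk => by
    rcases Nat.lt_succ_iff_lt_or_eq.1 hk with h | rfl
    exacts [lev_fix l hg.1 k h, hg.2]

/-- The set moved by a level. -/
def Del (l : ℕ) : Set (Fin 1782) := {x | inD l x = true}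

theorem Del_inv {l : ℕ} (hl : l < 3) {g : P} (hg : g ∈ lev l) (x : Fin 1782) : g x ∈ Del l ↔ x ∈ Del l := by
  have hs : ∀ i j : Fin 1782, adjK (g i) (g j) = adjK i j := H_le_stab (lev_le l hg)
  have h0 : ∀ k < l, adjK (base.getD k 0) (g x : ℕ) = adjK (base.getD k 0) (x : ℕ) := fun k hk => by
    rw [← (base_spec (show k < 3 by omega)).1]
    conv_lhs => rw [← lev_fix l hg k hk]
    exact hs _ _
  show inD l _ = true ↔ inD l _ = true
  match l, hl with
  | 0, _ => rfl
  | 1, _ => simp only [inD, h0 0 (by omega)]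
  | 2, _ => simp only [inD, h0 0 (by omega), h0 1 (by omega)]

theorem testBit_maskOf (l : List ℕ) (x : ℕ) : Nat.testBit (maskOf l) x = decide (x ∈ l) := by
  have : ∀ (l : List ℕ) (a : ℕ),
      Nat.testBit (l.foldl (fun m y => m ||| 2 ^ y) a) x = (Nat.testBit a x || decide (x ∈ l)) := by
    intro l
    induction l with
    | nil => simp
    | cons y l ih =>
      intro a
      rw [List.foldl_cons, ih, Nat.testBit_lor, Bool.or_assoc, Nat.testBit_two_pow]
      congr 1
      by_cases h : x = y <;> simp [h, eq_comm]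
  rw [maskOf, this]
  simp

theorem gen_mem {l : ℕ} (hl : l < 4) {a : ℕ} (ha : a ∈ gensAt.getD l []) :
    a < 287 ∧ (el a : P) ∈ lev l := by
  have h := List.all_eq_true.1 (List.all_eq_true.1 fix_gens l (List.mem_range.2 hl)) a ha
  simp only [Bool.and_eq_true, Nat.blt_eq, List.all_eq_true, Nat.beq_eq] at h
  have ha' : a < 287 := index_ok.1.1 ▸ h.1
  refine ⟨ha', mem_lev (el a).2 l fun k hk => Fin.ext ?_⟩
  rw [← rep_el ha', (base_spec (show k < 3 by omega)).1]
  refine h.2 _ ?_
  have hk3 : k < base.length := by rw [base_ok.2]; omega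
  rw [List.getD_eq_getElem _ _ hk3]
  exact List.mem_take_iff_getElem.2 ⟨k, by omega, rfl⟩

theorem pts_reach {l : ℕ} (hl : l < 3) : ∀ i < nPts l,
    ∃ g ∈ lev l, ((g (bpt l) : Fin 1782) : ℕ) = lk 11 (ptsP l) i := by
  intro i
  induction i using Nat.strong_induction_on with
  | _ i ih =>
    intro hi
    rcases i with _ | i
    · refine ⟨1, one_mem _, ?_⟩
      rw [Nat.eq_of_beq_eq_true (List.all_eq_true.1 size_ok l (List.mem_range.2 hl)), ← (base_spec hl).1]
      rfl
    have ho : orbitOK l i = true := by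
      obtain ⟨o0, o1, o2⟩ := orbit_ok
      match l, hl with
      | 0, _ => exact List.all_eq_true.1 o0 i (List.mem_range.2 (by simp [nPts] at hi; omega))
      | 1, _ => exact List.all_eq_true.1 o1 i (List.mem_range.2 (by simp [nPts] at hi; omega))
      | 2, _ => exact List.all_eq_true.1 o2 i (List.mem_range.2 (by simp [nPts] at hi; omega))
    simp only [orbitOK, Bool.and_eq_true, Nat.blt_eq, Nat.ble_eq, Nat.beq_eq] at ho
    obtain ⟨hk, hp, he⟩ := ho
    obtain ⟨g, hg, hgb⟩ := ih _ (show lk 11 (prevP l) i < i + 1 by omega) (by omega)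
    have hm : (gensAt.getD l []).getD (lk 11 (genP l) i) 0 ∈ gensAt.getD l [] := by
      rw [List.getD_eq_getElem _ _ hk]; exact List.getElem_mem _
    obtain ⟨ha, hae⟩ := gen_mem (show l < 4 by omega) hm
    refine ⟨_, mul_mem hae hg, ?_⟩
    rw [← he, ← hgb, Equiv.Perm.mul_apply, rep_el ha]

theorem Del_trans {l : ℕ} (hl : l < 3) : ∀ x ∈ Del l, ∃ g ∈ lev l, g (bpt l) = x := by
  intro x hx
  have h := Nat.eq_of_beq_eq_true (List.all_eq_true.1 cover_ok l (List.mem_range.2 hl))
  have hm := congrArg (fun m => Nat.testBit m (x : ℕ)) h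
  simp only [testBit_maskOf, decide_eq_decide] at hm
  obtain ⟨i, hi, he⟩ := List.mem_map.1 (hm.1 (List.mem_filter.2 ⟨List.mem_range.2 x.2, hx⟩))
  obtain ⟨g, hg, hgb⟩ := pts_reach hl i (List.mem_range.1 hi)
  exact ⟨g, hg, Fin.ext (hgb.trans he)⟩

theorem ncard_filter {N : ℕ} (p : ℕ → Bool) :
    {x : Fin N | p x = true}.ncard = ((List.range N).filter p).length := by
  rw [← Set.ncard_image_of_injective _ Fin.val_injective,
    ← List.toFinset_card_of_nodup ((List.nodup_range).filter p), ← Set.ncard_coe_finset]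
  congr 1
  ext k
  simp only [Set.mem_image, Set.mem_ofPred_eq, Finset.mem_coe, List.mem_toFinset, List.mem_filter,
    List.mem_range]
  exact ⟨fun ⟨x, hx, e⟩ => e ▸ ⟨x.2, hx⟩, fun ⟨hk, hp⟩ => ⟨⟨k, hk⟩, hp, rfl⟩⟩

theorem fix_count {l : ℕ} : {x : Fin 1782 | x ∈ Del l ∧ (Z : P) x = x}.ncard =
    ((List.range 1782).filter fun x => inD l x && Nat.beq (lk 11 zK x) x).length := by
  rw [← ncard_filter (N := 1782)]
  congr 1
  ext x
  simp only [Set.mem_ofPred_eq, Bool.and_eq_true, Nat.beq_eq, Del, rep_Z x, Fin.ext_iff]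

theorem conj_el : ∀ i < 63, ∃ g ∈ lev 3, Rep 11 1782 (conjTab.getD i 0) (g * (Z : P) * g⁻¹) := by
  intro i
  induction i using Nat.strong_induction_on with
  | _ i ih =>
    intro hi
    rcases i with _ | i
    · exact ⟨1, one_mem _, by rw [conj_head.1, one_mul, inv_one, mul_one]; exact rep_Z⟩
    have hk := List.all_eq_true.1 conj_tree i (List.mem_range.2 (by omega))
    simp only [kOK, Bool.and_eq_true, Nat.blt_eq, Nat.ble_eq, Nat.beq_eq] at hk
    obtain ⟨hk, hp, he⟩ := hk
    obtain ⟨g, hg, hr⟩ := ih (conjTree.getD i (0, 0)).2 (by omega) (by omega)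
    set k := (conjTree.getD i (0, 0)).1
    have hm : (gensAt.getD 3 []).getD k 0 ∈ gensAt.getD 3 [] := by
      have hk' : k < (gensAt.getD 3 []).length := by rw [index_ok.2.2.2.1.1]; exact hk
      rw [List.getD_eq_getElem (gensAt.getD 3 []) 0 hk']
      exact List.getElem_mem _
    obtain ⟨ha, hae⟩ := gen_mem (show 3 < 4 by omega) hm
    have hinv : Rep 11 1782 (at' (g3iAt.getD k 0)) (el ((gensAt.getD 3 []).getD k 0) : P)⁻¹ := by
      have hb := at_lt.2.2.2.2.2 k hk
      have h1 := List.all_eq_true.1 inv_ok k (List.mem_range.2 hk)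
      simp only [Bool.and_eq_true, Nat.beq_eq] at h1
      have h2 := rep_comp hw (rep_el ha) (rep_el hb)
      rw [show compK 11 1782 _ _ = _ from h1.1] at h2
      rw [inv_eq_of_mul_eq_one_right (h2.inj (rep_one hw))]
      exact rep_el hb
    refine ⟨_, mul_mem hae hg, ?_⟩
    rw [he, key_conj (rep_el ha) hinv hr, mul_inv_rev, show ∀ a b c d e : P, a * b * c * (d * e) =
      a * (b * c * d) * e from fun a b c d e => by group]
    exact rep_key hw _

theorem class_three : 63 ≤ (classIn (Z : P) (lev 3)).ncard := by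
  choose g hg hr using fun i : Fin 63 => conj_el i i.2
  let f : Fin 63 → classIn (Z : P) (lev 3) := fun i => ⟨_, g i, hg i, rfl⟩
  have hinj : Function.Injective f := fun i j e => by
    have e' : g i * (Z : P) * (g i)⁻¹ = g j * (Z : P) * (g j)⁻¹ := congrArg Subtype.val e
    have hs : sigK sigPts (conjTab.getD i 0) = sigK sigPts (conjTab.getD j 0) := by
      refine List.map_congr_left fun p hp => ?_
      have hp' : p < 1782 := by
        have h := index_ok.2.2.1
        simp only [Bool.and_eq_true, List.all_eq_true, Nat.blt_eq] at h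
        exact h.2 p hp
      exact (hr i ⟨p, hp'⟩).trans ((e'.symm ▸ hr j ⟨p, hp'⟩).symm)
    have h := conj_head.2
    exact Fin.ext ((h.getElem_inj_iff (hi := by simp) (hj := by simp)).1 (by simpa using hs))
  have h := Nat.card_le_card_of_injective f hinj
  rwa [Nat.card_fin, Nat.card_coe_set_eq] at h

theorem step_bound {l : ℕ} (hl : l < 3) :
    (Del l).ncard * (classIn (Z : P) (lev (l + 1))).ncard ≤
      ((List.range 1782).filter fun x => inD l x && Nat.beq (lk 11 zK x) x).length *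
        (classIn (Z : P) (lev l)).ncard := by
  rw [← fix_count]
  exact class_step (Z : P) (lev l) (Del l) (bpt l) (fun g hg x => Del_inv hl hg x) (base_spec hl).2.2
    (Del_trans hl)

theorem card_centralizer_le_bound : Nat.card (Subgroup.centralizer ({Z} : Set H)) ≤ 3317760 := by
  obtain ⟨c1, c2, f0, f1, f2⟩ := count_ok
  have e0 : (Del 0).ncard = 1782 := by
    rw [show Del 0 = Set.univ from Set.eq_univ_of_forall fun _ => rfl, Set.ncard_univ, Nat.card_fin]
  have e1 : (Del 1).ncard = 416 := (ncard_filter (N := 1782) (inD 1)).trans c1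
  have e2 : (Del 2).ncard = 100 := (ncard_filter (N := 1782) (inD 2)).trans c2
  have s0 := step_bound (l := 0) (by norm_num)
  have s1 := step_bound (l := 1) (by norm_num)
  have s2 := step_bound (l := 2) (by norm_num)
  have f0' : ((List.range 1782).filter fun x => inD 0 x && Nat.beq (lk 11 zK x) x).length = 54 := by
    simpa [inD] using f0
  rw [e0, f0'] at s0
  rw [e1, f1] at s1
  rw [e2, f2] at s2
  have := class_three
  have hb : 135135 ≤ (classIn (Z : P) (lev 0)).ncard := by
    simp only [Nat.zero_add, Nat.reduceAdd] at s0 s1 s2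
    omega
  have h := card_centralizer_le (Z : P) (lev 0) Z.2 hb
  have h' : 135135 * Nat.card (Subgroup.centralizer ({Z} : Set H)) ≤ 448345497600 :=
    OutCert.Suz.H_spec.2 ▸ h
  omega

end CfsgLib.Sporadic.SuzSix
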