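import Cfsg.Agent.Lib.Sporadic.SuzSix.InvolData
import Cfsg.Agent.Lib.Sporadic.OutCert.Suz.Defs
import Cfsg.Agent.Lib.Sporadic.OutCert.Slp

/-!
The tests for the centraliser of the central involution.
-/

set_option autoImplicit false
set_option maxRecDepth 100000

namespace CfsgLib.Sporadic.SuzSix

open CfsgLib.Sporadic.OutCert (lk pkF compK conjK oneK slpCheck slpVal allF)
open CfsgLib.Sporadic.OutCert.Suz (ka kn kb adjK)
open CfsgLib.SmallGroups.PermChain (get comp)

/-- The three given permutations. -/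
def base3 : List ℕ := [ka, kn, kb]

/-- The number at a position of the straight line computation. -/
def at' (i : ℕ) : ℕ := slpVal base3 steps i

/-- The number of the involution. -/
def zK : ℕ := at' zAt

/-- Composition of numbers. -/
noncomputable def cK3 (p q : ℕ) : ℕ := compK 11 1782 p q

/-- The element of the normal subgroup with a given index. -/
def qK (i : ℕ) : ℕ := qTab.getD i 0

/-- The six generators. -/
def qGen (j : ℕ) : ℕ := at' (qAt.getD j 0)

/-- The three further elements. -/
def aK (i : ℕ) : ℕ := at' (aAt.getD i 0)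

/-- Right multiplication table. -/
noncomputable def mulOK (v : ℕ) : Bool :=
  Nat.beq (cK3 (qK (2 * v)) zK) (qK (2 * v + 1)) && (List.range 6).all fun j =>
    Nat.beq (cK3 (qK (2 * v)) (qGen j)) (qK ((qMul.getD v []).getD j 0)) &&
      Nat.beq (((qMul.getD v []).getD j 0) / 2) (Nat.xor v (2 ^ j))

/-- Conjugation table. -/
noncomputable def conjOK (i : ℕ) : Bool :=
  Nat.beq (cK3 (aK i) zK) (cK3 zK (aK i)) && (List.range 6).all fun j =>
    Nat.blt ((cMul.getD i []).getD j 0) 128 &&
      Nat.beq (cK3 (aK i) (qGen j)) (cK3 (qK ((cMul.getD i []).getD j 0)) (aK i)) &&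
        Nat.beq ((cMul.getD i []).getD j 0 / 2) (get (aImg.getD i (0, 0)).1 (2 ^ j))

/-- The squares give the quadratic form. -/
noncomputable def sqOK (v : ℕ) : Bool :=
  let b := fun i => Nat.testBit v i
  Nat.beq (cK3 (qK (2 * v)) (qK (2 * v)))
    (if ((b 0 && b 1) ^^ (b 2 && b 3) ^^ b 4 ^^ (b 4 && b 5) ^^ b 5) then zK else qK 0)

/-- The adjacency sets. -/
def inD : ℕ → ℕ → Bool
  | 0, _ => true
  | 1, x => adjK (base.getD 0 0) x
  | _, x => adjK (base.getD 0 0) x && adjK (base.getD 1 0) x

/-- The packed orbit points. -/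
def ptsP : ℕ → ℕ
  | 0 => ptsP0
  | 1 => ptsP1
  | _ => ptsP2

/-- The packed generators of the orbit trees. -/
def genP : ℕ → ℕ
  | 0 => genP0
  | 1 => genP1
  | _ => genP2

/-- The packed parents of the orbit trees. -/
def prevP : ℕ → ℕ
  | 0 => prevP0
  | 1 => prevP1
  | _ => prevP2

/-- The lengths of the orbits. -/
def nPts : ℕ → ℕ
  | 0 => 1782
  | 1 => 416
  | _ => 100

/-- One step of an orbit tree. -/
noncomputable def orbitOK (l i : ℕ) : Bool :=
  let g := lk 11 (genP l) i
  let p := lk 11 (prevP l) i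
  Nat.blt g (gensAt.getD l []).length && (Nat.ble p i &&
    (Nat.beq (lk 11 (at' ((gensAt.getD l []).getD g 0)) (lk 11 (ptsP l) p)) (lk 11 (ptsP l) (i + 1))))

/-- A generator fixes the base points above its level. -/
noncomputable def fixOK (l : ℕ) : Bool :=
  (gensAt.getD l []).all fun a => Nat.blt a (3 + steps.length) &&
    ((base.take l).all fun x => Nat.beq (lk 11 (at' a) x) x)

/-- One step of the tree of conjugates. -/
noncomputable def kOK (i : ℕ) : Bool :=
  let e := conjTree.getD i (0, 0)
  Nat.blt e.1 3 && (Nat.ble e.2 i &&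
    Nat.beq (conjTab.getD (i + 1) 0)
      (conjK 11 1782 (at' ((gensAt.getD 3 []).getD e.1 0)) (at' (g3iAt.getD e.1 0)) (conjTab.getD e.2 0)))

/-- Images of the separating points. -/
def sigK (l : List ℕ) (k : ℕ) : List ℕ := l.map (lk 11 k)

end CfsgLib.Sporadic.SuzSix
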