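import Cfsg.Agent.Lib.Sporadic.SuzSix.CheckNormal
import Cfsg.Agent.Lib.Sporadic.SuzSix.InvolBound
import Cfsg.Agent.Lib.Sporadic.ExtraspecialCrit
import Cfsg.Agent.Lib.ThreeTransp.H1Vanish
import Cfsg.Agent.Lib.Orth.Standard

/-!
The extraspecial group of order 128 on the central involution and its quadratic form.
-/

set_option autoImplicit false
set_option maxRecDepth 10000

open scoped commutatorElement

namespace CfsgLib.Sporadic.SuzSix

open CfsgLib.Sporadic.OutCert (lk pkF compK conjK oneK Rep rep_comp rep_one)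
open CfsgLib.Sporadic.OutCert.Suz (P H hw)
open CfsgLib.ThreeTransp.H1Vanish (dec dec_xor dec_zero dec_inj dec_surj)
open CfsgLib.Orth (minusForm minusForm_apply)

attribute [local irreducible] lk pkF compK conjK oneK steps qTab qMul

theorem rep_mul {a b : ℕ} {x y : H} (hx : Rep 11 1782 a (x : P)) (hy : Rep 11 1782 b (y : P)) :
    Rep 11 1782 (cK3 a b) ((x * y : H) : P) := rep_comp hw hx hy

theorem eq_of_rep {a : ℕ} {x y : H} (hx : Rep 11 1782 a (x : P)) (hy : Rep 11 1782 a (y : P)) : x = y :=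
  Subtype.ext (hx.inj hy)

theorem rep_one' : Rep 11 1782 (oneK 11 1782) ((1 : H) : P) := rep_one hw

theorem Z_sq : Z * Z = 1 := eq_of_rep (zq_ok.2 ▸ rep_mul rep_Z rep_Z) rep_one'

/-- The six generators. -/
noncomputable def G6 (j : ℕ) : H := el (qAt.getD j 0)

theorem rep_G6 {j : ℕ} (hj : j < 6) : Rep 11 1782 (qGen j) (G6 j : P) := rep_el (at_lt.2.2.1 j hj)

/-- The normal subgroup. -/
noncomputable def QQ : Subgroup H := Subgroup.closure (insert Z (G6 '' {j | j < 6}))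

theorem Z_QQ : Z ∈ QQ := Subgroup.subset_closure (Set.mem_insert _ _)

theorem G6_QQ {j : ℕ} (hj : j < 6) : G6 j ∈ QQ := Subgroup.subset_closure (Set.mem_insert_of_mem _ ⟨j, hj, rfl⟩)

theorem QQ_le : QQ ≤ Subgroup.centralizer ({Z} : Set H) := by
  refine (Subgroup.closure_le _).2 ?_
  rintro _ (rfl | ⟨j, hj, rfl⟩)
  · exact Subgroup.mem_centralizer_singleton_iff.2 rfl
  · refine Subgroup.mem_centralizer_singleton_iff.2 (eq_of_rep (rep_mul (rep_G6 hj) rep_Z) ?_)
    have h := List.all_eq_true.1 zq_ok.1 j (List.mem_range.2 hj)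
    rw [← Nat.eq_of_beq_eq_true h]
    exact rep_mul rep_Z (rep_G6 hj)

theorem mul_spec {v : ℕ} (hv : v < 64) : cK3 (qK (2 * v)) zK = qK (2 * v + 1) ∧ ∀ j < 6,
    (qMul.getD v []).getD j 0 < 128 ∧ cK3 (qK (2 * v)) (qGen j) = qK ((qMul.getD v []).getD j 0) ∧
      (qMul.getD v []).getD j 0 / 2 = v ^^^ 2 ^ j := by
  have h := List.all_eq_true.1 mul_ok v (List.mem_range.2 hv)
  simp only [mulOK, Bool.and_eq_true, List.all_eq_true, List.mem_range, Nat.beq_eq] at h
  refine ⟨h.1, fun j hj => ⟨?_, (h.2 j hj).1, (h.2 j hj).2⟩⟩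
  have h' := List.all_eq_true.1 (List.all_eq_true.1 qMul_range v (List.mem_range.2 hv)) j (List.mem_range.2 hj)
  simpa [Nat.blt_eq] using h'

theorem q_ex : ∀ v < 64, (∃ x ∈ QQ, Rep 11 1782 (qK (2 * v)) (x : P)) ∧
    ∃ x ∈ QQ, Rep 11 1782 (qK (2 * v + 1)) (x : P) := by
  intro v
  induction v using Nat.strong_induction_on with
  | _ v ih =>
    intro hv
    have he : ∃ x ∈ QQ, Rep 11 1782 (qK (2 * v)) (x : P) := by
      rcases eq_or_ne v 0 with rfl | h0
      · exact ⟨1, one_mem _, by rw [Nat.mul_zero, qTab_head.1]; exact rep_one'⟩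
      have hj : Nat.log 2 v < 6 := Nat.log_lt_of_lt_pow h0 hv
      have h1 := Nat.pow_log_le_self 2 h0
      have h2 := Nat.lt_pow_succ_log_self Nat.one_lt_two v
      rw [pow_succ] at h2
      have hp : 0 < 2 ^ Nat.log 2 v := by positivity
      obtain ⟨x, hx, hr⟩ := (ih (v - 2 ^ Nat.log 2 v) (by omega) (by omega)).1
      have hlow := Nat.eq_of_beq_eq_true (List.all_eq_true.1 (List.all_eq_true.1 qMul_low _
        (List.mem_range.2 hj)) (v - 2 ^ Nat.log 2 v) (List.mem_range.2 (by omega)))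
      rw [Nat.sub_add_cancel h1] at hlow
      refine ⟨x * G6 (Nat.log 2 v), mul_mem hx (G6_QQ hj), ?_⟩
      have h := rep_mul hr (rep_G6 hj)
      rwa [((mul_spec (by omega)).2 _ hj).2.1, hlow] at h
    obtain ⟨x, hx, hr⟩ := he
    refine ⟨⟨x, hx, hr⟩, x * Z, mul_mem hx Z_QQ, ?_⟩
    rw [← (mul_spec hv).1]
    exact rep_mul hr rep_Z

theorem qE_ex (i : ℕ) : ∃ x : H, x ∈ QQ ∧ (i < 128 → Rep 11 1782 (qK i) (x : P)) := by
  by_cases hi : i < 128
  · rcases Nat.even_or_odd' i with ⟨v, rfl | rfl⟩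
    · obtain ⟨x, hx, hr⟩ := (q_ex v (by omega)).1
      exact ⟨x, hx, fun _ => hr⟩
    · obtain ⟨x, hx, hr⟩ := (q_ex v (by omega)).2
      exact ⟨x, hx, fun _ => hr⟩
  · exact ⟨1, one_mem _, fun h => absurd h hi⟩

/-- The element with a given index. -/
noncomputable def qE (i : ℕ) : H := (qE_ex i).choose

theorem qE_mem (i : ℕ) : qE i ∈ QQ := (qE_ex i).choose_spec.1

theorem rep_qE {i : ℕ} (hi : i < 128) : Rep 11 1782 (qK i) (qE i : P) := (qE_ex i).choose_spec.2 hi

theorem qE_zero : qE 0 = 1 := eq_of_rep (rep_qE (by norm_num)) (qTab_head.1.symm ▸ rep_one')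

theorem qE_one : qE 1 = Z := eq_of_rep (rep_qE (by norm_num)) (qTab_head.2.1.symm ▸ rep_Z)

theorem qE_inj {i j : ℕ} (hi : i < 128) (hj : j < 128) (h : qE i = qE j) : i = j := by
  have hs : sigK sigQ (qK i) = sigK sigQ (qK j) := by
    refine List.map_congr_left fun p hp => ?_
    have hp' : p < 1782 := by
      have h := index_ok.2.2.1
      simp only [Bool.and_eq_true, List.all_eq_true, Nat.blt_eq] at h
      exact h.1 p hp
    exact (rep_qE hi ⟨p, hp'⟩).trans ((h ▸ rep_qE hj ⟨p, hp'⟩).symm)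
  exact (sigQ_nodup.getElem_inj_iff (hi := by simpa using hi) (hj := by simpa using hj)).1 (by simpa using hs)

theorem qE_Z {v : ℕ} (hv : v < 64) : qE (2 * v) * Z = qE (2 * v + 1) :=
  eq_of_rep ((mul_spec hv).1 ▸ rep_mul (rep_qE (by omega)) rep_Z) (rep_qE (by omega))

theorem qE_Z' {v : ℕ} (hv : v < 64) : qE (2 * v + 1) * Z = qE (2 * v) := by
  rw [← qE_Z hv, mul_assoc, Z_sq, mul_one]

/-- The multiplication rule. -/
def Moves (x : H) (v : ℕ) : Prop := ∀ i < 128, ∃ k < 128, qE i * x = qE k ∧ k / 2 = i / 2 ^^^ v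

theorem moves_Z : Moves Z 0 := by
  intro i hi
  rcases Nat.even_or_odd' i with ⟨v, rfl | rfl⟩
  · exact ⟨2 * v + 1, by omega, qE_Z (by omega), by rw [Nat.xor_zero]; omega⟩
  · exact ⟨2 * v, by omega, qE_Z' (by omega), by rw [Nat.xor_zero]; omega⟩

theorem moves_G6 {j : ℕ} (hj : j < 6) : Moves (G6 j) (2 ^ j) := by
  have hev : ∀ v < 64, qE (2 * v) * G6 j = qE ((qMul.getD v []).getD j 0) ∧
      (qMul.getD v []).getD j 0 < 128 ∧ (qMul.getD v []).getD j 0 / 2 = v ^^^ 2 ^ j := fun v hv => by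
    obtain ⟨h1, h2, h3⟩ := (mul_spec hv).2 j hj
    exact ⟨eq_of_rep (h2 ▸ rep_mul (rep_qE (by omega)) (rep_G6 hj)) (rep_qE h1), h1, h3⟩
  intro i hi
  rcases Nat.even_or_odd' i with ⟨v, rfl | rfl⟩
  · obtain ⟨h1, h2, h3⟩ := hev v (by omega)
    exact ⟨_, h2, h1, by rw [h3, Nat.mul_div_cancel_left _ two_pos]⟩
  · obtain ⟨h1, h2, h3⟩ := hev v (by omega)
    obtain ⟨k, hk, hke, hk2⟩ := moves_Z _ h2
    refine ⟨k, hk, ?_, by rw [hk2, h3, Nat.xor_zero]; congr 1; omega⟩
    have hc : Z * G6 j = G6 j * Z := (Subgroup.mem_centralizer_singleton_iff.1 (QQ_le (G6_QQ hj))).symm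
    rw [← qE_Z (by omega), mul_assoc, hc, ← mul_assoc, h1, hke]

theorem moves_one : Moves 1 0 := fun i hi => ⟨i, hi, mul_one _, (Nat.xor_zero _).symm⟩

theorem moves_mul {x y : H} {v w : ℕ} (hx : Moves x v) (hy : Moves y w) : Moves (x * y) (v ^^^ w) := by
  intro i hi
  obtain ⟨k, hk, hke, hk2⟩ := hx i hi
  obtain ⟨m, hm, hme, hm2⟩ := hy k hk
  exact ⟨m, hm, by rw [← mul_assoc, hke, hme], by rw [hm2, hk2, Nat.xor_assoc]⟩

theorem exists_moves {x : H} (hx : x ∈ QQ) : ∃ v, Moves x v := by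
  induction hx using Subgroup.closure_induction with
  | mem y hy =>
    rcases hy with rfl | ⟨j, hj, rfl⟩
    exacts [⟨0, moves_Z⟩, ⟨_, moves_G6 hj⟩]
  | one => exact ⟨0, moves_one⟩
  | mul a b _ _ ha hb =>
    obtain ⟨v, hv⟩ := ha
    obtain ⟨w, hw'⟩ := hb
    exact ⟨_, moves_mul hv hw'⟩
  | inv a _ ha =>
    obtain ⟨v, hv⟩ := ha
    choose k hk hke hk2 using hv
    let f : Fin 128 → Fin 128 := fun i => ⟨k i i.2, hk i i.2⟩
    have hf : Function.Injective f := fun i i' e => Fin.ext (qE_inj i.2 i'.2 (by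
      have e' : k i i.2 = k i' i'.2 := congrArg Fin.val e
      exact mul_right_cancel ((hke i i.2).trans ((congrArg qE e').trans (hke i' i'.2).symm))))
    refine ⟨v, fun i hi => ?_⟩
    obtain ⟨m, hm⟩ := Finite.injective_iff_surjective.1 hf ⟨i, hi⟩
    have hm' : k m m.2 = i := congrArg Fin.val hm
    refine ⟨m, m.2, ?_, ?_⟩
    · rw [mul_inv_eq_iff_eq_mul, hke m m.2, hm']
    · rw [← hm', hk2 m m.2, Nat.xor_assoc, Nat.xor_self, Nat.xor_zero]

theorem exists_index {x : H} (hx : x ∈ QQ) : ∃ k < 128, x = qE k ∧ Moves x (k / 2) := by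
  obtain ⟨v, hv⟩ := exists_moves hx
  obtain ⟨k, hk, hke, hk2⟩ := hv 0 (by norm_num)
  rw [qE_zero, one_mul] at hke
  rw [Nat.zero_div, Nat.zero_xor] at hk2
  exact ⟨k, hk, hke, hk2.symm ▸ hv⟩

theorem card_QQ : Nat.card QQ = 128 := by
  refine (Nat.card_congr (Equiv.ofBijective (fun i : Fin 128 => (⟨qE i, qE_mem i⟩ : QQ))
    ⟨fun i j h => Fin.ext (qE_inj i.2 j.2 (congrArg Subtype.val h)), fun x => ?_⟩)).symm.trans (Nat.card_fin 128)
  obtain ⟨k, hk, hke, -⟩ := exists_index x.2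
  exact ⟨⟨k, hk⟩, Subtype.ext hke.symm⟩

/-- The vector space. -/
abbrev VV : Type := (Fin 2 ⊕ Fin 2) ⊕ Fin 2 → ZMod 2

/-- The bit of a coordinate. -/
def bitEquiv : (Fin 2 ⊕ Fin 2) ⊕ Fin 2 ≃ Fin 6 where
  toFun
    | .inl (.inl i) => ⟨2 * i, by omega⟩
    | .inl (.inr i) => ⟨2 * i + 1, by omega⟩
    | .inr i => ⟨4 + i, by omega⟩
  invFun i := [Sum.inl (.inl 0), .inl (.inr 0), .inl (.inl 1), .inl (.inr 1), .inr 0, .inr 1].getD i (.inr 0)
  left_inv := by decide
  right_inv := by decide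

/-- The quadratic form on the classes. -/
noncomputable abbrev QF : QuadraticForm (ZMod 2) VV := minusForm (ZMod 2) 2 1 1

/-- The bit formula for the form. -/
def qBit (v : ℕ) : Bool :=
  (Nat.testBit v 0 && Nat.testBit v 1) ^^ (Nat.testBit v 2 && Nat.testBit v 3) ^^ Nat.testBit v 4 ^^
    (Nat.testBit v 4 && Nat.testBit v 5) ^^ Nat.testBit v 5

theorem qBit_form : ∀ v < 64, Cfsg.quadFormMinus 2 (ZMod 2) 1 1 (dec bitEquiv v) = if qBit v then 1 else 0 := by
  decide +kernel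

theorem QF_dec {v : ℕ} (hv : v < 64) : QF (dec bitEquiv v) = if qBit v then 1 else 0 :=
  (minusForm_apply 2 1 1 _).symm.trans (qBit_form v hv)

/-- The class of an element. -/
noncomputable def cls (x : QQ) : VV := dec bitEquiv ((exists_index x.2).choose / 2)

theorem cls_spec (x : QQ) {k : ℕ} (hk : k < 128) (h : (x : H) = qE k) : cls x = dec bitEquiv (k / 2) := by
  obtain ⟨hk', he, -⟩ := (exists_index x.2).choose_spec
  rw [cls, qE_inj hk' hk (he.symm.trans h)]

theorem cls_moves (x : QQ) : ∃ k < 128, (x : H) = qE k ∧ cls x = dec bitEquiv (k / 2) ∧ Moves x (k / 2) := by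
  obtain ⟨hk', he, hm⟩ := (exists_index x.2).choose_spec
  exact ⟨_, hk', he, rfl, hm⟩

theorem cls_mul (x y : QQ) : cls (x * y) = cls x + cls y := by
  obtain ⟨a, ha, hxa, hca, -⟩ := cls_moves x
  obtain ⟨b, hb, -, hcb, hmb⟩ := cls_moves y
  obtain ⟨k, hk, hke, hk2⟩ := hmb a ha
  rw [cls_spec (x * y) hk (by rw [Subgroup.coe_mul, hxa, hke]), hca, hcb, hk2, dec_xor]

theorem cls_one : cls 1 = 0 := by
  rw [cls_spec 1 (show 0 < 128 by norm_num) qE_zero.symm, Nat.zero_div, dec_zero]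

theorem cls_surj (v : VV) : ∃ x : QQ, cls x = v := by
  obtain ⟨a, ha, rfl⟩ := dec_surj bitEquiv v
  exact ⟨⟨qE (2 * a), qE_mem _⟩,
    (cls_spec _ (show 2 * a < 128 by omega) rfl).trans (by rw [Nat.mul_div_cancel_left _ two_pos])⟩

theorem cls_eq_zero {x : QQ} (h : cls x = 0) : (x : H) = 1 ∨ (x : H) = Z := by
  obtain ⟨a, ha, hxa, hca, -⟩ := cls_moves x
  rw [hca, ← dec_zero bitEquiv] at h
  have h0 := dec_inj bitEquiv (show a / 2 < 2 ^ 6 by norm_num; omega) (by norm_num) h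
  rcases (show a = 0 ∨ a = 1 by omega) with rfl | rfl
  exacts [Or.inl (hxa.trans qE_zero), Or.inr (hxa.trans qE_one)]

theorem Z_ne : Z ≠ 1 := fun h => by
  have := qE_inj (show 1 < 128 by norm_num) (show 0 < 128 by norm_num) (by rw [qE_one, qE_zero, h])
  omega

theorem sq_eq (x : QQ) : (x : H) * x = if QF (cls x) = 1 then Z else 1 := by
  obtain ⟨a, ha, hxa, hca, -⟩ := cls_moves x
  have hev : ∀ v < 64, qE (2 * v) * qE (2 * v) = if qBit v then Z else 1 := by
    intro v hv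
    have h := List.all_eq_true.1 sq_ok v (List.mem_range.2 hv)
    simp only [sqOK, Nat.beq_eq] at h
    refine eq_of_rep (h ▸ rep_mul (rep_qE (by omega)) (rep_qE (by omega))) ?_
    show Rep 11 1782 (if qBit v then zK else qK 0) _
    split_ifs
    · exact rep_Z
    · rw [qTab_head.1]; exact rep_one'
  have hQ : QF (cls x) = if qBit (a / 2) then 1 else 0 := by rw [hca]; exact QF_dec (by omega)
  have hif : (if QF (cls x) = 1 then Z else 1) = if qBit (a / 2) then Z else 1 := by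
    rw [hQ]; cases qBit (a / 2) <;> simp
  rw [hif, hxa, ← hev (a / 2) (by omega)]
  rcases Nat.even_or_odd' a with ⟨v, rfl | rfl⟩
  · rw [Nat.mul_div_cancel_left _ two_pos]
  · rw [show (2 * v + 1) / 2 = v by omega, ← qE_Z (by omega)]
    have hc : Z * qE (2 * v) = qE (2 * v) * Z :=
      (Subgroup.mem_centralizer_singleton_iff.1 (QQ_le (qE_mem _))).symm
    rw [mul_assoc, ← mul_assoc Z, hc, mul_assoc (qE (2 * v)) Z Z, Z_sq, mul_one]

theorem QF_nondeg : (QuadraticMap.polarBilin QF).Nondegenerate :=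
  CfsgLib.Orth.minusForm_nondeg 2 1 1 (by decide +kernel)

/-- The involution in the subgroup. -/
noncomputable def ZQ : QQ := ⟨Z, Z_QQ⟩

theorem comm_cls (x y : QQ) : cls ⁅x, y⁆ = 0 := by
  have hinv : ∀ a : QQ, cls a⁻¹ = cls a := fun a => by
    have h := cls_mul a a⁻¹
    rw [mul_inv_cancel, cls_one] at h
    exact (add_eq_zero_iff_neg_eq.1 h.symm).symm.trans (ZModModule.neg_eq_self _)
  rw [commutatorElement_def, cls_mul, cls_mul, cls_mul, hinv, hinv, add_assoc, add_assoc,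
    ← add_assoc (cls y), add_comm (cls y), add_assoc (cls x), ZModModule.add_self, add_zero,
    ZModModule.add_self]

theorem polar_zero {x : QQ} (h : ∀ y : QQ, x * y = y * x) : ∀ w, QuadraticMap.polar QF (cls x) w = 0 := by
  intro w
  obtain ⟨y, rfl⟩ := cls_surj w
  have e := sq_eq (x * y)
  have hxy : ((x * y : QQ) : H) * (x * y : QQ) = ((x : H) * x) * ((y : H) * y) := by
    have := congrArg Subtype.val (show (x * y) * (x * y) = (x * x) * (y * y) by
      rw [mul_assoc, ← mul_assoc y, ← h y, mul_assoc, ← mul_assoc x])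
    simpa using this
  rw [hxy, sq_eq, sq_eq, cls_mul] at e
  rw [QuadraticMap.polar]
  have key : ∀ a b c : ZMod 2, ((if a = 1 then Z else 1) * (if b = 1 then Z else 1) = if c = 1 then Z else 1) →
      c - a - b = 0 := by
    have h01 : ∀ a : ZMod 2, a = 0 ∨ a = 1 := by decide
    intro a b c h
    rcases h01 a with rfl | rfl <;> rcases h01 b with rfl | rfl <;> rcases h01 c with rfl | rfl <;>
      first
        | decide
        | (exfalso; simp [Z_sq, Z_ne, Z_ne.symm] at h)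
  exact key _ _ _ e

theorem isExtraspecial_QQ : Cfsg.IsExtraspecial 2 QQ := by
  have hval : ∀ a : QQ, cls a = 0 → a = 1 ∨ a = ZQ := fun a h =>
    (cls_eq_zero h).imp (fun e => Subtype.ext e) fun e => Subtype.ext e
  refine ExtraspecialCrit.isExtraspecial (IsPGroup.of_card (n := 7) (by rw [card_QQ]; norm_num)) ZQ
    (fun h => Z_ne (congrArg Subtype.val h)) (Subgroup.mem_center_iff.2 fun g => Subtype.ext
      (Subgroup.mem_centralizer_singleton_iff.1 (QQ_le g.2))) (fun a b => hval _ (comm_cls a b))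
    (fun a => ?_) (fun a ha => hval a (QF_nondeg.1 _ fun w => ?_)) ?_
  · have := sq_eq a
    split_ifs at this
    exacts [Or.inr (Subtype.ext this), Or.inl (Subtype.ext this)]
  · exact polar_zero (fun y => (Subgroup.mem_center_iff.1 ha y).symm) w
  · by_contra h
    push Not at h
    obtain ⟨x, hx⟩ := cls_surj (dec bitEquiv 1)
    have h0 := QF_nondeg.1 _ fun w => polar_zero (x := x) (fun y => (h x y).eq) w
    rw [hx, ← dec_zero bitEquiv] at h0
    exact one_ne_zero (dec_inj bitEquiv (by norm_num) (by norm_num) h0)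

end CfsgLib.Sporadic.SuzSix
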