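import Cfsg.Agent.Lib.Sporadic.SuzSix.InvolAction
import Cfsg.Agent.Lib.Components.GenFitting
import Cfsg.Agent.Lib.Classical.OrthSimple
import Cfsg.Agent.Lib.ThreeTransp.Simplicity

/-!
The centraliser of the central involution of the Suzuki group.
-/

set_option autoImplicit false
set_option maxRecDepth 10000

namespace CfsgLib.Sporadic.SuzSix

open CfsgLib.Sporadic.OutCert.Suz (P H)
open CfsgLib.Orth (orthGroup minusForm)

attribute [local irreducible] Z QQ phi cls

/-- The orthogonal simple group. -/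
abbrev O6 : Type := ↥(commutator (orthGroup QF))

theorem aniso : ∀ z₁ z₂ : ZMod 2, z₁ ^ 2 + 1 * z₁ * z₂ + 1 * z₂ ^ 2 = 0 → z₁ = 0 ∧ z₂ = 0 := by
  decide +kernel

theorem good6 : CfsgLib.Orth.Good (ZMod 2) VV :=
  Or.inr (by rw [Module.finrank_fintype_fun_eq_card]; simp)

theorem card_O6 : Nat.card O6 = 25920 := by
  have hn : 2 ≤ Module.finrank (ZMod 2) VV := by rw [Module.finrank_fintype_fun_eq_card]; simp
  have h := (commutator (orthGroup QF)).card_mul_index
  rw [CfsgLib.Classical.index_commutator_two QF_nondeg good6 hn,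
    CfsgLib.Classical.card_orth_minus (ZMod.card 2) (1 : ZMod 2) 1 aniso 2] at h
  simp only [Finset.prod_range_succ, Finset.prod_range_zero] at h
  norm_num at h
  show Nat.card ↥(commutator (orthGroup QF)) = 25920
  linarith

theorem isSimple_O6 : IsSimpleGroup O6 := by
  have hp : CfsgLib.Classical.HypPairs QF := CfsgLib.Classical.hypPairs_minus 2 le_rfl 1 1
  have hn : 5 ≤ Module.finrank (ZMod 2) VV := by rw [Module.finrank_fintype_fun_eq_card]; simp
  have hs := CfsgLib.Classical.commutator_quotient_simple QF_nondeg good6 hp hn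
  have hc := CfsgLib.Classical.card_center_two (Q := QF) QF_nondeg good6 (by omega) hp
  have hb : Subgroup.center O6 = ⊥ := Subgroup.eq_bot_of_card_eq _ hc
  exact ((QuotientGroup.quotientMulEquivOfEq hb).trans QuotientGroup.quotientBot).symm.isSimpleGroup

theorem card_facts : KN = Subgroup.centralizer ({Z} : Set H) ∧ phi.range = commutator (orthGroup QF) ∧
    phi.ker = QQ.subgroupOf KN := by
  have hle : (commutator KN).map phi ≤ commutator (orthGroup QF) := by
    rw [map_commutator_eq]
    exact Subgroup.commutator_mono le_top le_top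
  have hO : Nat.card ↥(commutator (orthGroup QF)) = 25920 := card_O6
  have heq := Subgroup.eq_of_le_of_card_ge hle (hO.le.trans card_image_ge)
  have hrange : commutator (orthGroup QF) ≤ phi.range := heq ▸ Subgroup.map_le_range phi _
  have h1 : 25920 ≤ Nat.card phi.range := hO ▸ Subgroup.card_le_of_le hrange
  have hQ : Nat.card (QQ.subgroupOf KN) = 128 :=
    (Nat.card_congr (Subgroup.subgroupOfEquivOfLe QQ_le_KN).toEquiv).trans card_QQ
  have h2 : 128 ≤ Nat.card phi.ker := hQ ▸ Subgroup.card_le_of_le QQ_ker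
  have hK : Nat.card phi.ker * Nat.card phi.range = Nat.card KN := by
    rw [← Subgroup.index_ker, Subgroup.card_mul_index]
  have hC : KN ≤ Subgroup.centralizer ({Z} : Set H) := inf_le_left
  have h3 : Nat.card KN ≤ 3317760 := (Subgroup.card_le_of_le hC).trans card_centralizer_le_bound
  have h4 : 128 * 25920 ≤ Nat.card phi.ker * Nat.card phi.range := Nat.mul_le_mul h2 h1
  have hk : Nat.card phi.ker = 128 := by nlinarith
  have hr : Nat.card phi.range = 25920 := by nlinarith
  refine ⟨Subgroup.eq_of_le_of_card_ge hC ?_, (Subgroup.eq_of_le_of_card_ge hrange (by omega)).symm,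
    (Subgroup.eq_of_le_of_card_ge QQ_ker (by omega)).symm⟩
  exact card_centralizer_le_bound.trans (by omega)

theorem KN_eq : KN = Subgroup.centralizer ({Z} : Set H) := card_facts.1

theorem range_eq : phi.range = commutator (orthGroup QF) := card_facts.2.1

theorem ker_eq : phi.ker = QQ.subgroupOf KN := card_facts.2.2

/-- The centraliser. -/
noncomputable abbrev CC : Subgroup H := Subgroup.centralizer ({Z} : Set H)

theorem mem_KN (c : CC) : (c : H) ∈ KN := by rw [KN_eq]; exact c.2

theorem phi_mem (k : KN) : phi k ∈ commutator (orthGroup QF) := by rw [← range_eq]; exact ⟨k, rfl⟩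

/-- The centraliser inside the normalising elements. -/
noncomputable def toKN : CC →* KN :=
  MonoidHom.mk' (fun c => ⟨(c : H), mem_KN c⟩) fun _ _ => Subtype.ext rfl

/-- The map onto the orthogonal simple group. -/
noncomputable def psi : CC →* O6 := (phi.comp toKN).codRestrict _ fun c => phi_mem (toKN c)

theorem psi_apply (c : CC) : (psi c : orthGroup QF) = phi ⟨c, mem_KN c⟩ := rfl

theorem psi_surjective : Function.Surjective psi := by
  rintro ⟨g, hg⟩
  rw [← range_eq] at hg
  obtain ⟨k, hk⟩ := hg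
  exact ⟨⟨k, k.2.1⟩, Subtype.ext hk⟩

theorem mem_ker_psi {c : CC} : c ∈ psi.ker ↔ (c : H) ∈ QQ := by
  have h : psi c = 1 ↔ (⟨c, mem_KN c⟩ : KN) ∈ phi.ker := by
    rw [MonoidHom.mem_ker, ← psi_apply, OneMemClass.coe_eq_one]
  rw [MonoidHom.mem_ker, h, ker_eq]
  exact Subgroup.mem_subgroupOf

theorem ker_psi : psi.ker = QQ.subgroupOf CC := Subgroup.ext fun _ => mem_ker_psi.trans Subgroup.mem_subgroupOf.symm

/-- The extraspecial group in the centraliser. -/
noncomputable def kerEquiv : QQ ≃* psi.ker :=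
  (Subgroup.subgroupOfEquivOfLe QQ_le).symm.trans (MulEquiv.subgroupCongr ker_psi.symm)

theorem isExtraspecial_ker : Cfsg.IsExtraspecial 2 psi.ker :=
  ThreeTransp.Simplicity.isExtraspecial_of_equiv kerEquiv isExtraspecial_QQ

theorem card_ker_psi : Nat.card psi.ker = 2 ^ 7 := by
  rw [← Nat.card_congr kerEquiv.toEquiv, card_QQ]; norm_num

theorem centralizer_le : Subgroup.centralizer (psi.ker : Set CC) ≤ psi.ker := by
  intro c hc
  rw [MonoidHom.mem_ker]
  refine Subtype.ext (Subtype.ext (LinearEquiv.ext fun v => ?_))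
  rw [psi_apply, phi_apply]
  obtain ⟨x, rfl⟩ := cls_surj v
  rw [act_cls, show cj2 ⟨c, mem_KN c⟩ x = x from Subtype.ext ?_]
  · rfl
  have h := congrArg Subtype.val
    (Subgroup.mem_centralizer_iff.1 hc ⟨x, QQ_le x.2⟩ (mem_ker_psi.2 x.2))
  show (c : H) * x * (c : H)⁻¹ = x
  rw [← show (x : H) * c = c * x from h, mul_inv_cancel_right]

theorem genFitting_eq : Cfsg.generalizedFittingSubgroup CC = psi.ker := by
  have : Fact (Nat.Prime 2) := ⟨Nat.prime_two⟩
  have hpg : IsPGroup 2 psi.ker := isExtraspecial_ker.1.1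
  refine le_antisymm (Components.generalizedFitting_le_of_centralizer_le psi.ker ?_ centralizer_le) ?_
  · have := isSimple_O6
    have hn := Subgroup.Normal.map (f := psi) (H := Cfsg.fittingSubgroup CC) inferInstance psi_surjective
    rcases hn.eq_bot_or_eq_top with h | h
    · exact (Subgroup.map_eq_bot_iff _).1 h
    · exfalso
      have : Group.IsNilpotent ↥((Cfsg.fittingSubgroup CC).map psi) :=
        Group.nilpotent_of_surjective _ (MonoidHom.subgroupMap_surjective psi _)
      have : Group.IsNilpotent O6 := by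
        rw [h] at *
        exact Group.nilpotent_of_mulEquiv (Subgroup.topEquiv (G := O6))
      have : Group.IsSolvable O6 := inferInstance
      let : CommGroup O6 :=
        { (inferInstance : Group O6) with mul_comm := IsSimpleGroup.comm_iff_isSolvable.2 inferInstance }
      have hp := IsSimpleGroup.prime_card (α := O6)
      rw [card_O6] at hp
      norm_num at hp
  · have : Group.IsNilpotent psi.ker := hpg.isNilpotent
    exact (Solvable.Cores.le_fittingSubgroup inferInstance).trans
      Components.fittingSubgroup_le_generalizedFittingSubgroup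

/-- The quotient by the extraspecial group. -/
noncomputable def quotEquiv :
    (CC ⧸ psi.ker) ≃* Cfsg.Omega (ZMod 2) (Cfsg.quadFormMinus 2 (ZMod 2) 1 1) :=
  (QuotientGroup.quotientKerEquivOfSurjective psi psi_surjective).trans
    (CfsgLib.Classical.omegaEquiv QF (CfsgLib.Orth.minusForm_apply 2 1 1)).symm

theorem orderOf_Z : orderOf Z = 2 := orderOf_eq_prime (by rw [pow_two]; exact Z_sq) Z_ne

theorem exists_conjugate : ∃ g : H, (∃ hq : g * Z * g⁻¹ ∈ CC, (⟨g * Z * g⁻¹, hq⟩ : CC) ∈ psi.ker) ∧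
    g * Z * g⁻¹ ≠ Z := by
  obtain ⟨h, ht, hne⟩ := g_ok
  have he : el gAt * Z = qE tAt * el gAt :=
    eq_of_rep (Nat.eq_of_beq_eq_true h ▸ rep_mul (rep_el at_lt.2.1) rep_Z)
      (rep_mul (rep_qE ht) (rep_el at_lt.2.1))
  have hc : el gAt * Z * (el gAt)⁻¹ = qE tAt := by rw [he, mul_inv_cancel_right]
  refine ⟨el gAt, ⟨by rw [hc]; exact QQ_le (qE_mem _), mem_ker_psi.2 ?_⟩, fun e => hne ?_⟩
  · show el gAt * Z * (el gAt)⁻¹ ∈ QQ
    rw [hc]; exact qE_mem _
  · exact qE_inj ht (by norm_num) (by rw [← hc, e, qE_one])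

theorem isSimple_H : IsSimpleGroup H :=
  haveI := CfsgLib.Sporadic.CosetCert.SuzP.isSimple
  @MulEquiv.isSimpleGroup _ _ Cfsg.Spor.Suz _ inferInstance OutCert.Suz.H_spec.1.some.symm

theorem not_comm_H : ¬ IsMulCommutative H := by
  intro h
  have htop : Subgroup.centralizer ({Z} : Set H) = ⊤ :=
    top_le_iff.1 fun g _ => Subgroup.mem_centralizer_singleton_iff.2 (h.is_comm.comm g Z)
  have hb := card_centralizer_le_bound
  rw [htop, Subgroup.card_top, OutCert.Suz.H_spec.2] at hb
  norm_num at hb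

theorem suz_spec : IsSimpleGroup H ∧ ¬ IsMulCommutative H ∧ ∃ z : H, orderOf z = 2 ∧
    ∃ (Q : Subgroup (Subgroup.centralizer ({z} : Set H))) (_ : Q.Normal),
      Cfsg.generalizedFittingSubgroup (Subgroup.centralizer ({z} : Set H)) = Q ∧
      Cfsg.IsExtraspecial 2 Q ∧ Nat.card Q = 2 ^ 7 ∧
      Nonempty ((Subgroup.centralizer ({z} : Set H)) ⧸ Q ≃*
        Cfsg.Omega (ZMod 2) (Cfsg.quadFormMinus 2 (ZMod 2) 1 1)) ∧
      ∃ g : H, (∃ hq : g * z * g⁻¹ ∈ Subgroup.centralizer ({z} : Set H),
        (⟨g * z * g⁻¹, hq⟩ : Subgroup.centralizer ({z} : Set H)) ∈ Q) ∧ g * z * g⁻¹ ≠ z :=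
  ⟨isSimple_H, not_comm_H, Z, orderOf_Z, psi.ker, inferInstance, genFitting_eq, isExtraspecial_ker, card_ker_psi,
    ⟨quotEquiv⟩, exists_conjugate⟩

end CfsgLib.Sporadic.SuzSix
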