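import Cfsg.Agent.Lib.Sporadic.SuzSix.CheckCanon
import Cfsg.Agent.Lib.Schur.Suz.Cover
import Cfsg.Agent.Lib.Sporadic.LeechSuborbits
import Cfsg.Agent.Lib.SmallGroups.LeechCensus

/-!
The centraliser of an element of order three in the automorphism group of the rank 24 lattice is the
six-fold cover of the Suzuki group.

The element carries a minimal vector `u` to a vector at inner product `-16`.  Its conjugates by the
stabiliser of the pair give 672 different elements, and moving the second vector over the 4600 possible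
places gives a lower bound for the class equal to the index of the cover.
-/

set_option autoImplicit false
set_option maxRecDepth 10000

namespace CfsgLib.Sporadic.SuzSix

open Cfsg CfsgLib.SmallGroups CfsgLib.SmallGroups.Golay CfsgLib.Schur.Tails.Mat CfsgLib.Schur.Sporadic
  CfsgLib.SmallGroups.LeechOrbit CfsgLib.SmallGroups.LeechVectorStab
open scoped Pointwise

attribute [local irreducible] tab tree xW hW hiW

/-- The element. -/
noncomputable def x : Co0 := Co1.wordG xW

/-- The first vector. -/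
noncomputable def u : leechLattice := Co1.comb (Co1.row uC)

/-- The second vector. -/
noncomputable def w : leechLattice := Co1.comb (Co1.row wC)

/-- A word fixing the two vectors. -/
noncomputable def hG (k : ℕ) : Co0 := Co1.wordG (hW.getD k [])

theorem x_u : x • u = w := Co1.smul_comb_word xW uC

theorem hG_u {k : ℕ} (hk : k < 2) : hG k • u = u := by
  rw [hG, u, Co1.smul_comb_word, fix_u k hk]

theorem hG_w {k : ℕ} (hk : k < 2) : hG k • w = w := by
  rw [hG, w, Co1.smul_comb_word, fix_w k hk]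

theorem norm_u : sqNorm (u : GolayPt → ℤ) = 32 := by
  refine Eq.trans ?_ norms_ok.1
  exact Finset.sum_congr rfl fun p _ => by rw [u, Co1.coe_comb, sq]

theorem norm_w : sqNorm (w : GolayPt → ℤ) = 32 := by
  refine Eq.trans ?_ norms_ok.2.1
  exact Finset.sum_congr rfl fun p _ => by rw [w, Co1.coe_comb, sq]

theorem dot_uw : dotInt (u : GolayPt → ℤ) (w : GolayPt → ℤ) = -16 := by
  refine Eq.trans ?_ norms_ok.2.2
  exact Finset.sum_congr rfl fun p _ => by rw [u, w, Co1.coe_comb, Co1.coe_comb]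

theorem lt_five {l : List ℕ} (h : l ∈ xW :: (hW ++ hiW)) : ∀ k ∈ l, k < 5 := words_ok.1 l h

theorem rep_x : RepM 24 (Suz.covK.getD 0 0) (Co1.psi ((x : Co0) : Spor.Co1)) := by
  rw [← words_ok.2.1]
  exact Suz.rep_word xW (lt_five List.mem_cons_self)

theorem x_class : ((x : Co0) : Spor.Co1) = Suz.xb := Suz.eq_of_rep rep_x (Suz.rep_el (by norm_num))

theorem hW_mem {k : ℕ} (hk : k < 2) : hW.getD k [] ∈ xW :: (hW ++ hiW) ∧ hiW.getD k [] ∈ xW :: (hW ++ hiW) := by
  have h : hW.length = 2 ∧ hiW.length = 2 := by unfold hW hiW; exact ⟨rfl, rfl⟩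
  rw [List.getD_eq_getElem _ _ (h.1 ▸ hk), List.getD_eq_getElem _ _ (h.2 ▸ hk)]
  exact ⟨List.mem_cons_of_mem _ (List.mem_append_left _ (List.getElem_mem _)),
    List.mem_cons_of_mem _ (List.mem_append_right _ (List.getElem_mem _))⟩

theorem rep_h {k : ℕ} (hk : k < 2) : RepM 24 (hK k) (Co1.psi ((hG k : Co0) : Spor.Co1)) :=
  Suz.rep_word _ (lt_five (hW_mem hk).1)

theorem rep_hi {k : ℕ} (hk : k < 2) : RepM 24 (hiK k) (Co1.psi ((hG k : Co0) : Spor.Co1)⁻¹) := by
  have h1 : RepM 24 (hiK k) (Co1.psi ((Co1.wordG (hiW.getD k []) : Co0) : Spor.Co1)) :=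
    Suz.rep_word _ (lt_five (hW_mem hk).2)
  have h2 : ((hG k : Co0) : Spor.Co1) * ((Co1.wordG (hiW.getD k []) : Co0) : Spor.Co1) = 1 := by
    refine Suz.eq_of_rep (Suz.rep_mul (rep_h hk) h1) ?_
    have e : mmul 24 (hK k) (hiK k) = oneM 24 := by
      interval_cases k
      exacts [words_ok.2.2.1, words_ok.2.2.2]
    rw [e]
    exact Suz.rep_one
  rwa [inv_eq_of_mul_eq_one_right h2]

/-- The joint stabiliser of the two vectors. -/
noncomputable abbrev stab : Subgroup Co0 := MulAction.stabilizer Co0 u ⊓ MulAction.stabilizer Co0 w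

theorem conj_code : ∀ i < 672, ∃ h ∈ stab, RepM 24 (tab.getD i 0) (Co1.psi ((h * x * h⁻¹ : Co0) : Spor.Co1)) := by
  intro i
  induction i using Nat.strong_induction_on with
  | _ i ih =>
    intro hi
    rcases i with _ | i
    · refine ⟨1, one_mem _, ?_⟩
      rw [one_mul, inv_one, mul_one, start_tab.1]
      exact Suz.rep_word xW (lt_five List.mem_cons_self)
    have hs := List.all_eq_true.1 tree_ok i (List.mem_range.2 (by omega))
    simp only [stepOK, Bool.and_eq_true, Nat.blt_eq, Nat.ble_eq, Nat.beq_eq] at hs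
    obtain ⟨hk, hp, he⟩ := hs
    obtain ⟨h, hh, hr⟩ := ih (tree.getD i (0, 0)).2 (by omega) (by omega)
    refine ⟨hG (tree.getD i (0, 0)).1 * h, mul_mem ⟨hG_u hk, hG_w hk⟩ hh, ?_⟩
    rw [he]
    have := Suz.rep_mul (rep_h hk) (Suz.rep_mul hr (rep_hi hk))
    convert this using 2
    simp only [mul_inv_rev, QuotientGroup.mk_mul, QuotientGroup.mk_inv, mul_assoc]

/-- The conjugating elements fixing the pair. -/
noncomputable def cj (i : Fin 672) : Co0 := (conj_code i i.2).choose

theorem cj_mem (i : Fin 672) : cj i ∈ stab := (conj_code i i.2).choose_spec.1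

theorem cj_code (i : Fin 672) :
    RepM 24 (tab.getD i 0) (Co1.psi ((cj i * x * (cj i)⁻¹ : Co0) : Spor.Co1)) :=
  (conj_code i i.2).choose_spec.2

theorem cj_inj {i j : Fin 672} (h : cj i * x * (cj i)⁻¹ = cj j * x * (cj j)⁻¹) : i = j := by
  have hc := cj_code i
  rw [h] at hc
  have hd := cj_code j
  have hcan : ∀ k : Fin 672, mmul 24 (tab.getD k 0) (oneM 24) = tab.getD k 0 := fun k => by
    have := List.all_eq_true.1 canon_ok k (List.mem_range.2 k.2)
    simpa using this
  have he : tab.getD i 0 = tab.getD j 0 := by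
    rw [← hcan i, ← hcan j]
    simp only [mmul]
    exact congrArg (fun f => CfsgLib.Sporadic.OutCert.pkF 24 f 24 0) (funext fun k =>
      (hc ⟨_, lk_lt (n := 24) (oneM 24) k⟩).trans (hd ⟨_, lk_lt (n := 24) (oneM 24) k⟩).symm)
  have hl : tab.length = 672 := start_tab.2
  rw [List.getD_eq_getElem _ _ (by omega), List.getD_eq_getElem _ _ (by omega)] at he
  exact Fin.ext ((nodupB_sound _ tab_nodup).getElem_inj_iff.1 he)

theorem card_Co0_eq : Nat.card Co0 = 4600 * 672 * 2690072985600 := LeechOrder.card_Co0.trans (by norm_num)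

theorem index_ge : 4600 * 672 ≤ (Subgroup.centralizer ({x} : Set Co0)).index := by
  haveI : Finite Co0 := Suz.finite_Co0
  let T : Set leechLattice := {z | sqNorm (z : GolayPt → ℤ) = 32 ∧
    dotInt (u : GolayPt → ℤ) (z : GolayPt → ℤ) = -16}
  have hT : Nat.card T = 4600 := by
    rw [Nat.card_coe_set_eq, ← (LeechCensus.census (u : GolayPt → ℤ) u.2 norm_u).1,
      ← Set.ncard_image_of_injective T Subtype.val_injective]
    congr 1
    ext y
    simp only [T, Set.mem_image, Set.mem_ofPred_eq]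
    constructor
    · rintro ⟨y, hy, rfl⟩
      exact ⟨y.2, hy⟩
    · rintro ⟨h1, h2⟩
      exact ⟨⟨y, h1⟩, h2, rfl⟩
  choose b hb1 hb2 using fun z : T =>
    LeechSuborbits.transitive_minus16 u w z.1 norm_u norm_w z.2.1 dot_uw z.2.2
  let f : T × Fin 672 → Co0 ⧸ Subgroup.centralizer ({x} : Set Co0) :=
    fun q => QuotientGroup.mk (b q.1 * cj q.2)
  have hf : Function.Injective f := by
    rintro ⟨z, i⟩ ⟨z', j⟩ e
    have e' := Subgroup.mem_centralizer_singleton_iff.1 (QuotientGroup.eq.1 e)
    have hconj : b z * (cj i * x * (cj i)⁻¹) * (b z)⁻¹ = b z' * (cj j * x * (cj j)⁻¹) * (b z')⁻¹ :=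
      calc b z * (cj i * x * (cj i)⁻¹) * (b z)⁻¹
          = b z * cj i * (x * ((b z * cj i)⁻¹ * (b z' * cj j))) * (b z' * cj j)⁻¹ := by group
        _ = b z * cj i * (((b z * cj i)⁻¹ * (b z' * cj j)) * x) * (b z' * cj j)⁻¹ := by rw [e']
        _ = _ := by group
    have hact : ∀ (z : T) (i : Fin 672), (b z * (cj i * x * (cj i)⁻¹) * (b z)⁻¹) • u = z.1 := by
      intro z i
      have h1 : cj i • u = u := (cj_mem i).1
      have h2 : cj i • w = w := (cj_mem i).2
      rw [mul_smul, mul_smul, mul_smul, mul_smul, inv_smul_eq_iff.2 (hb1 z).symm, inv_smul_eq_iff.2 h1.symm,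
        x_u, h2, hb2]
    have hz : z = z' := Subtype.ext (by rw [← hact z i, hconj, hact z' j])
    subst hz
    exact Prod.ext rfl (cj_inj (mul_left_cancel (mul_right_cancel hconj)))
  have h := Nat.card_le_card_of_injective f hf
  rw [Nat.card_prod, hT, Nat.card_fin] at h
  exact h

theorem card_GG : Nat.card Suz.GG = 2690072985600 := by
  rw [← Suz.sig.ker.card_mul_index, Suz.card_ker, Subgroup.index_ker, MonoidHom.range_eq_top.2 Suz.sig_surjective,
    Subgroup.card_top, CfsgLib.Sporadic.CosetCert.SuzP.card_eq.1]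

theorem x_mem : x ∈ Suz.GG := by
  show ((x : Co0) : Spor.Co1) ∈ Suz.KK
  rw [x_class]
  exact Suz.xb_mem

theorem x_ker : (⟨x, x_mem⟩ : Suz.GG) ∈ Suz.sig.ker := by
  rw [Suz.mem_ker]
  show ((x : Co0) : Spor.Co1) ∈ _
  rw [x_class]
  exact Subgroup.mem_zpowers _

theorem centralizer_eq : Subgroup.centralizer ({x} : Set Co0) = Suz.GG := by
  haveI : Finite Co0 := Suz.finite_Co0
  refine (Subgroup.eq_of_le_of_card_ge (fun g hg => ?_) ?_).symm
  · exact Subgroup.mem_centralizer_singleton_iff.2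
      (congrArg Subtype.val (Subgroup.mem_center_iff.1 (Suz.ker_central x_ker) ⟨g, hg⟩))
  · have h := (Subgroup.centralizer ({x} : Set Co0)).card_mul_index
    rw [card_Co0_eq] at h
    rw [card_GG]
    nlinarith [index_ge]

end CfsgLib.Sporadic.SuzSix
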